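import Cfsg.Agent.Lib.Fischer3T60.Recog.NoSwap
import Cfsg.Agent.Lib.ZStar.Final

/-!
# The centraliser of a product of two commuting members permutes the two
-/

set_option autoImplicit false

namespace Cfsg.Agent.Lib.Fischer3T60.Recog

open Cfsg Cfsg.Agent.Lib.ThreeTransp Cfsg.Agent.Lib.M22Struct66

variable {G : Type*} [Group G] [Finite G] {D : Set G}

omit [Finite G] in
/-- An element of odd order squaring to 1 is trivial. -/
theorem eq_one_of_odd {g : G} {n : ℕ} (hn : Odd n) (h1 : g ^ n = 1) (h2 : g * g = 1) : g = 1 := by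
  obtain ⟨k, rfl⟩ := hn
  rwa [pow_succ, pow_mul, pow_two, h2, one_pow, one_mul] at h1

/-- A fixed-point-free involution of a group of odd order inverts it. -/
theorem inverts_of_fixedPointFree {O : Subgroup G} {x : G} (hx : x * x = 1)
    (hconj : ∀ o ∈ O, x * o * x⁻¹ ∈ O) (hfix : ∀ o ∈ O, Commute x o → o = 1) :
    ∀ o ∈ O, x * o * x⁻¹ = o⁻¹ := by
  let φ : ↥O →* ↥O :=
    { toFun := fun o => ⟨x * o * x⁻¹, hconj o o.2⟩
      map_one' := by ext; simp
      map_mul' := fun a b => by ext; simp [mul_assoc] }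
  have hinv : x⁻¹ = x := inv_eq_of_mul_eq_one_right hx
  have hfpf : MonoidHom.FixedPointFree φ := fun o ho => by
    have h : x * (o : G) * x⁻¹ = o := congrArg Subtype.val ho
    exact Subtype.ext (hfix o o.2 (mul_inv_eq_iff_eq_mul.1 h))
  have hiv : Function.Involutive φ := fun o => Subtype.ext (by
    show x * (x * (o : G) * x⁻¹) * x⁻¹ = o
    rw [hinv]
    simp only [← mul_assoc, hx, one_mul]
    rw [mul_assoc, hx, mul_one])
  intro o ho
  exact congrArg Subtype.val (congrFun (hfpf.coe_eq_inv_of_involutive hiv) ⟨o, ho⟩)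

/-- The odd part of the centraliser of `d t` in which the commutators with `d` lie. -/
structure OddPart (d t : G) (O : Subgroup G) : Prop where
  le : O ≤ Subgroup.centralizer ({d * t} : Set G)
  odd : Odd (Nat.card ↥O)
  conj : ∀ k ∈ Subgroup.centralizer ({d * t} : Set G), ∀ o ∈ O, k * o * k⁻¹ ∈ O
  comm : ∀ k ∈ Subgroup.centralizer ({d * t} : Set G),
    k * d * k⁻¹ * d ∈ O ∨ k * d * k⁻¹ * d * (d * t) ∈ O

namespace Hyp

variable (hH : Hyp D) {d t : G} (hd : d ∈ D) (ht : t ∈ nb D d)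
include hH hd ht

omit [Finite G] in
theorem pair_facts : (d * t) * (d * t) = 1 ∧ d * t ≠ 1 ∧ d * t ≠ d ∧
    d ∈ Subgroup.centralizer ({d * t} : Set G) ∧ t ∈ Subgroup.centralizer ({d * t} : Set G) ∧
    d * (d * t) = t := by
  refine ⟨?_, fun e => ht.2.1 ((hH.mul_eq_one_iff hd).1 e), fun e => hH.ne_one t ht.1 (mul_eq_left.1 e),
    ?_, ?_, hH.mm_cancel hd t⟩
  · rw [ht.2.2.symm.mul_mul_mul_comm, hH.sq d hd, hH.sq t ht.1, one_mul]
  · exact Subgroup.mem_centralizer_singleton_iff.2 ((Commute.refl d).mul_right ht.2.2).eq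
  · exact Subgroup.mem_centralizer_singleton_iff.2 (ht.2.2.symm.mul_right (Commute.refl t)).eq

/-- Modulo `d t`, `d` is isolated in the centraliser of `d t`. -/
theorem exists_oddPart : ∃ O, OddPart d t O := by
  classical
  obtain ⟨hii, hi1, hid, hdK, -, hdi⟩ := hH.pair_facts hd ht
  set i := d * t with hi
  set K := Subgroup.centralizer ({i} : Set G) with hK
  set z : ↥K := ⟨i, Subgroup.mem_centralizer_singleton_iff.2 rfl⟩ with hz
  set N := Subgroup.zpowers z with hN
  have hzc : ∀ k : ↥K, Commute k z := fun k => Subtype.ext (Subgroup.mem_centralizer_singleton_iff.1 k.2)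
  have hzz : z * z = 1 := Subtype.ext hii
  have hNmem : ∀ k : ↥K, k ∈ N ↔ k = 1 ∨ k = z := by
    intro k
    constructor
    · intro hk
      obtain ⟨n, rfl⟩ := Subgroup.mem_zpowers_iff.1 hk
      rcases Int.even_or_odd n with ⟨m, rfl⟩ | ⟨m, rfl⟩
      · exact Or.inl (by rw [← two_mul, zpow_mul, zpow_two, hzz, one_zpow])
      · exact Or.inr (by rw [zpow_add, zpow_mul, zpow_two, hzz, one_zpow, one_mul, zpow_one])
    · rintro (rfl | rfl)
      exacts [one_mem _, Subgroup.mem_zpowers _]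
  have hNn : N.Normal := ⟨fun n hn g => by
    rcases (hNmem n).1 hn with rfl | rfl
    · simp
    · rw [(hzc g).eq, mul_inv_cancel_right]; exact Subgroup.mem_zpowers _⟩
  set dK : ↥K := ⟨d, hdK⟩ with hdKdef
  set q := QuotientGroup.mk' N with hq
  set u := q dK with hu
  have hu2 : orderOf u = 2 := by
    refine orderOf_eq_prime ?_ fun h => ?_
    · rw [pow_two, hu, ← map_mul, show dK * dK = 1 from Subtype.ext (hH.sq d hd), map_one]
    · rcases (hNmem dK).1 ((QuotientGroup.eq_one_iff _).1 h) with e | e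
      exacts [hH.ne_one d hd (congrArg Subtype.val e), hid (congrArg Subtype.val e).symm]
  have hiso : ∀ a : ↥K ⧸ N, Commute u (a * u * a⁻¹) → a * u * a⁻¹ = u := by
    intro a ha
    obtain ⟨k, rfl⟩ := QuotientGroup.mk'_surjective N a
    set x : G := (k : G) * d * (k : G)⁻¹ with hx
    have hxD : x ∈ D := hH.conj _ d hd
    have hxi : x * i ∈ D := by
      have : x * i = (k : G) * t * (k : G)⁻¹ := by
        have hki : (k : G) * i = i * (k : G) := Subgroup.mem_centralizer_singleton_iff.1 k.2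
        rw [hx, mul_assoc, show (k : G)⁻¹ * i = i * (k : G)⁻¹ from (Commute.inv_left hki).eq, ← hdi]
        group
      rw [this]; exact hH.conj _ t ht.1
    have hxK : Commute x i := by
      have : Commute ((k : G) * d * (k : G)⁻¹) ((k : G) * i * (k : G)⁻¹) :=
        (commute_conj_iff _).2 (Subgroup.mem_centralizer_singleton_iff.1 hdK)
      rwa [show (k : G) * i * (k : G)⁻¹ = i by
        rw [Subgroup.mem_centralizer_singleton_iff.1 k.2, mul_inv_cancel_right]] at this
    have hmem : (k * dK * k⁻¹ * dK)⁻¹ * (dK * (k * dK * k⁻¹)) ∈ N :=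
      QuotientGroup.eq.1 (show q (k * dK * k⁻¹ * dK) = q (dK * (k * dK * k⁻¹)) by
        rw [map_mul, map_mul, map_mul, map_mul, map_mul, map_mul, map_inv]
        exact ha.eq.symm)
    have hkey : x * d * x * d ∈ ({1, i} : Set G) := by
      have hdinv : d⁻¹ = d := hH.inv_mem_eq hd
      have hxinv : x⁻¹ = x := hH.inv_mem_eq hxD
      rcases (hNmem _).1 hmem with e | e <;> have e' := congrArg Subtype.val e
      · left
        have h1 : (x * d)⁻¹ * (d * x) = 1 := e'
        rw [inv_mul_eq_one] at h1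
        rw [show x * d * x * d = (x * d) * (x * d) by group, Commute.mul_mul_mul_comm (show Commute d x from h1.symm),
          hH.sq x hxD, hH.sq d hd, one_mul]
      · right
        have h1 : (x * d)⁻¹ * (d * x) = i := e'
        rw [mul_inv_rev, hdinv, hxinv] at h1
        have h2 := congrArg (fun g => d * g * d) h1
        simp only [← mul_assoc, hH.sq d hd, one_mul] at h2
        rw [Set.mem_singleton_iff, h2, hdi, ← ht.2.2.eq]
    have hxdi : x = d ∨ x = t := by
      rcases hkey with e | e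
      · have hc : Commute x d := by
          rw [mul_assoc (x * d)] at e
          have := congrArg (· * (d * x)) e
          simp only [one_mul, mul_assoc, hH.mm_cancel hd, hH.sq x hxD, mul_one] at this
          exact this
        refine hH.eq_of_mul_mem hd ht hxD hc ?_ hxi
        rw [← hdi]; exact hc.mul_right hxK
      · refine absurd ?_ (hH.no_swap hd ht hxD)
        rw [Set.mem_singleton_iff] at e
        rw [← hdi, ((Subgroup.mem_centralizer_singleton_iff.1 hdK) : d * i = i * d), ← e, hH.mul_mul_self hd]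
    show q k * q dK * (q k)⁻¹ = q dK
    rw [← map_inv, ← map_mul, ← map_mul]
    refine QuotientGroup.eq.2 ((hNmem _).2 ?_)
    rcases hxdi with e | e
    · left
      exact Subtype.ext (show x⁻¹ * d = 1 by rw [e, inv_mul_cancel])
    · right
      exact Subtype.ext (show x⁻¹ * d = i by rw [e, hH.inv_mem_eq ht.1, hi, ht.2.2.eq])
  have hz' := Lib.ZStar.zStar (↥K ⧸ N) u ⟨hu2, hiso⟩
  set R : Subgroup ↥K := (oddCore (↥K ⧸ N)).comap q with hR
  have hzR : z ∈ R := by
    show q z ∈ oddCore (↥K ⧸ N)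
    rw [show q z = 1 from (QuotientGroup.eq_one_iff _).2 (Subgroup.mem_zpowers _)]
    exact one_mem _
  have hodd : Odd (Nat.card ↥(oddCore (↥K ⧸ N))) :=
    haveI : Fact (Nat.Prime 2) := ⟨Nat.prime_two⟩
    Nat.coprime_two_right.1 Lib.PSolvable.pPrimeCore_coprime
  set Z : Subgroup ↥R := N.subgroupOf R with hZ
  have hZn : Z.Normal := inferInstance
  have hidx : Z.index = Nat.card ↥(oddCore (↥K ⧸ N)) := by
    rw [hZ]
    show N.relIndex R = _
    have h : q.ker.relIndex R = Nat.card ↥(oddCore (↥K ⧸ N)) := by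
      rw [Subgroup.relIndex_ker, hR, Subgroup.map_comap_eq_self_of_surjective (QuotientGroup.mk'_surjective N)]
    rwa [hq, QuotientGroup.ker_mk'] at h
  have hN2 : Nat.card ↥N = 2 := by
    rw [Nat.card_zpowers]
    exact orderOf_eq_prime (by rw [pow_two, hzz]) fun e => hi1 (congrArg Subtype.val e)
  have hZ2 : Nat.card ↥Z = 2 := by
    rw [hZ, Nat.card_congr (Subgroup.subgroupOfEquivOfLe (fun k hk => ?_)).toEquiv, hN2]
    rcases (hNmem k).1 hk with rfl | rfl
    exacts [one_mem _, hzR]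
  obtain ⟨H, hH'⟩ := Subgroup.exists_right_complement'_of_coprime (N := Z) (by
    rw [hZ2, hidx]; exact (Nat.coprime_two_left).2 hodd)
  have hHcard : Odd (Nat.card ↥H) := by
    rw [← hH'.symm.index_eq_card, hidx]; exact hodd
  have hdec : ∀ r : ↥R, ∃ h ∈ H, r = h ∨ r = h * ⟨z, hzR⟩ := by
    intro r
    obtain ⟨⟨⟨a, ha⟩, ⟨h, hh⟩⟩, rfl⟩ := hH'.2 r
    refine ⟨h, hh, ?_⟩
    rcases (hNmem _).1 (Subgroup.mem_subgroupOf.1 ha) with e | e
    · obtain rfl : a = 1 := Subtype.ext e
      exact Or.inl (one_mul h)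
    · refine Or.inr ?_
      obtain rfl : a = ⟨z, hzR⟩ := Subtype.ext e
      exact Subtype.ext (hzc (h : ↥K)).eq.symm
  set O : Subgroup G := (H.map R.subtype).map K.subtype with hO
  have hOmem : ∀ g : G, g ∈ O ↔ ∃ r : ↥R, r ∈ H ∧ ((r : ↥K) : G) = g := by
    intro g
    simp [hO, Subgroup.mem_map]
  refine ⟨O, ?_, ?_, ?_, ?_⟩
  · exact Subgroup.map_subtype_le _
  · rw [hO, Subgroup.card_map_of_injective Subtype.val_injective,
      Subgroup.card_map_of_injective Subtype.val_injective]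
    exact hHcard
  · intro k hk o ho
    obtain ⟨r, hr, rfl⟩ := (hOmem o).1 ho
    set r' : ↥R := ⟨⟨k, hk⟩ * r * ⟨k, hk⟩⁻¹, (inferInstance : R.Normal).conj_mem _ r.2 _⟩ with hr'
    have hpow : r' ^ Nat.card ↥H = 1 := by
      have h1 : r ^ Nat.card ↥H = 1 := congrArg Subtype.val (pow_card_eq_one' (G := ↥H) (x := ⟨r, hr⟩))
      have h2 : (r : ↥K) ^ Nat.card ↥H = 1 := congrArg Subtype.val h1
      refine Subtype.ext ?_
      rw [Subgroup.coe_pow, hr', conj_pow, h2, mul_one, mul_inv_cancel]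
      rfl
    obtain ⟨h, hh, e | e⟩ := hdec r'
    · exact (hOmem _).2 ⟨h, hh, by rw [← e, hr']; rfl⟩
    · exfalso
      rw [e, Commute.mul_pow (show Commute h ⟨z, hzR⟩ from Subtype.ext (hzc (h : ↥K)).eq),
        show h ^ Nat.card ↥H = 1 from congrArg Subtype.val (pow_card_eq_one' (G := ↥H) (x := ⟨h, hh⟩)),
        one_mul] at hpow
      have := congrArg (fun r : ↥R => ((r : ↥K) : G)) hpow
      simp only [Subgroup.coe_pow, Subgroup.coe_one, hz] at this
      exact hi1 (eq_one_of_odd hHcard this hii)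
  · intro k hk
    set kK : ↥K := ⟨k, hk⟩
    have hmem : q (kK * dK * kK⁻¹ * dK) ∈ oddCore (↥K ⧸ N) := by
      have h1 := hz' (q kK)
      have : q (kK * dK * kK⁻¹ * dK) = (u * q kK * u⁻¹ * (q kK)⁻¹)⁻¹ := by
        rw [hu, show (q dK)⁻¹ = q dK by
          rw [← map_inv]; exact congrArg q (Subtype.ext (hH.inv_mem_eq hd))]
        simp only [mul_inv_rev, inv_inv, ← map_inv, ← map_mul]
        refine congrArg q (Subtype.ext ?_)
        simp [hH.inv_mem_eq hd, mul_assoc, dK, kK]
      rw [this]; exact inv_mem h1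
    obtain ⟨h, hh, e | e⟩ := hdec ⟨_, hmem⟩
    · exact Or.inl ((hOmem _).2 ⟨h, hh, by rw [← e]; rfl⟩)
    · refine Or.inr ((hOmem _).2 ⟨h, hh, ?_⟩)
      have := congrArg (fun r : ↥R => ((r : ↥K) : G)) e
      simp only [Subgroup.coe_mul] at this
      rw [show k * d * k⁻¹ * d = ((h : ↥K) : G) * i from this, mul_assoc, hii, mul_one]

omit [Finite G] hH hd ht in
theorem com2_centralizer {y : G} (hy : y ∈ com2 D d t) : y ∈ Subgroup.centralizer ({d * t} : Set G) :=
  Subgroup.mem_centralizer_singleton_iff.2 ((hy.1.2.2.symm).mul_right hy.2.2.2.symm).eq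

variable {O : Subgroup G} (hO : OddPart d t O)
include hO

/-- An element of the odd part fixed by `d` is trivial. -/
theorem fixed_eq_one {n : G} (hn : n ∈ O) (hnd : Commute d n) : n = 1 := by
  obtain ⟨hii, hi1, hid, hdK, htK, hdi⟩ := hH.pair_facts hd ht
  have hnt : ∀ n ∈ O, Commute d n → Commute t n := fun n hn hnd => by
    rw [← hdi]
    exact hnd.mul_left (Subgroup.mem_centralizer_singleton_iff.1 (hO.le hn)).symm
  have hodd : ∀ g ∈ O, g * g = 1 → g = 1 := fun g hg h2 =>
    eq_one_of_odd hO.odd (congrArg Subtype.val (pow_card_eq_one' (G := ↥O) (x := ⟨g, hg⟩))) h2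
  have hfix : ∀ y ∈ com2 D d t, Commute n y := by
    intro y hy
    have hyK := com2_centralizer hy
    set y' := n * y * n⁻¹ with hy'
    have hy'2 : y' ∈ com2 D d t := by
      have h1 := hH.nb_conj n hy.1
      have h2 := hH.nb_conj n hy.2
      rw [hnd.symm.eq, mul_inv_cancel_right] at h1
      rw [(hnt n hn hnd).symm.eq, mul_inv_cancel_right] at h2
      exact ⟨h1, h2⟩
    have he : y * y' ∈ O := by
      rw [hy', show y * (n * y * n⁻¹) = (y * n * y) * n⁻¹ by group]
      have := hO.conj y hyK n hn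
      rw [hH.inv_mem_eq hy.1.1] at this
      exact mul_mem this (inv_mem hn)
    by_cases hc : Commute y y'
    · have : y * y' = 1 := hodd _ he (by
        rw [hc.symm.mul_mul_mul_comm, hH.sq y hy.1.1, hH.sq y' hy'2.1.1, one_mul])
      rw [hH.mul_eq_one_iff hy.1.1, hy', mul_inv_eq_iff_eq_mul] at this
      exact this
    exfalso
    obtain ⟨u, w, s, hL, hmem, -⟩ := hH.block_spec hd ht hy
    obtain ⟨huM, -⟩ := (hmem u).2 (by simp)
    have huy : u ≠ y := fun e => by
      have := hL.nodup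
      simp [e] at this
    have hcu : Commute y u := hL.comm y (by simp) u (by simp)
    have huy' : ¬ Commute u y' := fun h => hc (hL.closed t (by simp) u (by simp) huM.2.2.1.symm y' hy'2.1
      hy'2.2.2.2.symm h.symm y (by simp)).symm
    have hS := hH.nbset d hd
    have b1 : y * y' * y = y' * y * y' := braid hS hy.1 hy'2.1 hc
    have b2 : u * y' * u = y' * u * y' := braid hS huM.1 hy'2.1 huy'
    have hf : u * (y * y') * u ∈ O := by
      have := hO.conj u (com2_centralizer huM) _ he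
      rwa [hH.inv_mem_eq huM.1.1] at this
    have hef : y * y' * (u * (y * y') * u) = y' * (y * u) * y' := by
      rw [show u * (y * y') * u = (u * y) * (y' * u) by group, ← hcu.eq,
        show y * y' * (y * u * (y' * u)) = (y * y' * y) * (u * y' * u) by group, b1, b2,
        show y' * y * y' * (y' * u * y') = y' * y * (y' * y') * u * y' by group, hH.sq y' hy'2.1.1, mul_one]
      group
    have h1 : y' * (y * u) * y' = 1 := hodd _ (hef ▸ mul_mem he hf) (by
      rw [show y' * (y * u) * y' * (y' * (y * u) * y') = y' * (y * u) * (y' * y') * (y * u) * y' by group,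
        hH.sq y' hy'2.1.1, mul_one, mul_assoc y', hcu.symm.mul_mul_mul_comm, hH.sq y hy.1.1, hH.sq u huM.1.1,
        one_mul, mul_one, hH.sq y' hy'2.1.1])
    have h2 := congrArg (fun g => y' * g * y') h1
    simp only [← mul_assoc, hH.sq y' hy'2.1.1, one_mul, mul_one] at h2
    rw [mul_assoc (y * u), hH.sq y' hy'2.1.1, mul_one, hH.mul_eq_one_iff hy.1.1] at h2
    exact huy h2
  exact hodd n hn (hH.self d hd t ht n hnd.symm (hnt n hn hnd).symm hfix)

theorem inverts : (∀ o ∈ O, d * o * d⁻¹ = o⁻¹) ∧ ∀ o ∈ O, t * o * t⁻¹ = o⁻¹ := by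
  obtain ⟨hii, hi1, hid, hdK, htK, hdi⟩ := hH.pair_facts hd ht
  have h := inverts_of_fixedPointFree (hH.sq d hd) (fun o ho => hO.conj d hdK o ho)
    (fun o ho hc => hH.fixed_eq_one hd ht hO ho hc)
  refine ⟨h, fun o ho => ?_⟩
  rw [← hdi, mul_inv_rev, show d * (d * t) * o * ((d * t)⁻¹ * d⁻¹) = d * ((d * t) * o * (d * t)⁻¹) * d⁻¹ by group,
    ← Subgroup.mem_centralizer_singleton_iff.1 (hO.le ho), mul_inv_cancel_right]
  exact h o ho

theorem inverts_com2 {y : G} (hy : y ∈ com2 D d t) : ∀ o ∈ O, y * o * y⁻¹ = o⁻¹ := by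
  obtain ⟨hii, hi1, hid, hdK, htK, hdi⟩ := hH.pair_facts hd ht
  have hyK := com2_centralizer hy
  refine inverts_of_fixedPointFree (hH.sq y hy.1.1) (fun o ho => hO.conj y hyK o ho) fun o ho hc => ?_
  obtain ⟨hid', hit'⟩ := hH.inverts hd ht hO
  set d' := o * d * o⁻¹ with hd'
  set t' := o * t * o⁻¹ with ht'
  have hyo : o * y * o⁻¹ = y := by rw [← hc.eq, mul_inv_cancel_right]
  have hnd' : d' ∈ nb D y := by have := hH.nb_conj o (hH.nb_symm hd hy.1); rwa [hyo] at this
  have hnt' : t' ∈ nb D y := by have := hH.nb_conj o (hH.nb_symm ht.1 hy.2); rwa [hyo] at this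
  have hne : d' ≠ t' := fun e => ht.2.1 (mul_left_cancel (mul_right_cancel e)).symm
  have hprod : d' * t' = d * t := by
    rw [hd', ht', show o * d * o⁻¹ * (o * t * o⁻¹) = o * (d * t) * o⁻¹ by group,
      Subgroup.mem_centralizer_singleton_iff.1 (hO.le ho), mul_inv_cancel_right]
  obtain ⟨h1, h2⟩ := hH.commute_of_commute_mul hy.1.1 hnd' hnt' (hH.nb_symm hd hy.1) hne
    (hprod ▸ Subgroup.mem_centralizer_singleton_iff.1 hdK)
  have h3 : Commute d' t := by
    rw [← hdi, ← hprod]
    exact h1.symm.mul_right ((Commute.refl d').mul_right ((commute_conj_iff o).2 ht.2.2))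
  have hmem : d' * (d * t) ∈ D := by
    rw [← hprod, hH.mm_cancel hnd'.1]; exact hnt'.1
  have key : d' = o * o * d := by
    have h := hid' o⁻¹ (inv_mem ho)
    rw [inv_inv] at h
    calc d' = o * (d * o⁻¹ * d⁻¹) * d := by rw [hd']; group
      _ = o * o * d := by rw [h]
  rcases hH.eq_of_mul_mem hd ht hnd'.1 h1.symm h3 hmem with e | e <;> rw [key] at e
  · exact eq_one_of_odd hO.odd (congrArg Subtype.val (pow_card_eq_one' (G := ↥O) (x := ⟨o, ho⟩)))
      (mul_eq_right.1 e)
  · exfalso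
    have : o * o = d * t := by
      rw [ht.2.2.eq, ← e, hH.mul_mul_self hd]
    refine hi1 (this ▸ eq_one_of_odd hO.odd ?_ (this.symm ▸ hii))
    exact congrArg Subtype.val (pow_card_eq_one' (G := ↥O) (x := ⟨o * o, mul_mem ho ho⟩))

theorem oddPart_le {y : G} (hy : y ∈ com2 D d t) {O' : Subgroup G} (hO' : OddPart d y O') : O ≤ O' := by
  intro o ho
  obtain ⟨hid', -⟩ := hH.inverts hd ht hO
  have hy' := hH.inverts_com2 hd ht hO hy
  obtain ⟨hii, hi1, -, -, -, -⟩ := hH.pair_facts hd hy.1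
  have hfix : (d * y) * o * (d * y)⁻¹ = o := by
    rw [mul_inv_rev, show d * y * o * (y⁻¹ * d⁻¹) = d * (y * o * y⁻¹) * d⁻¹ by group, hy' o ho,
      hid' _ (inv_mem ho), inv_inv]
  have hoK : o ∈ Subgroup.centralizer ({d * y} : Set G) :=
    Subgroup.mem_centralizer_singleton_iff.2 (mul_inv_eq_iff_eq_mul.1 hfix).symm
  have hsq : o * d * o⁻¹ * d = o * o := by
    have h := hid' o⁻¹ (inv_mem ho)
    rw [inv_inv] at h
    have := hH.inv_mem_eq hd
    rw [this] at h
    rw [show o * d * o⁻¹ * d = o * (d * o⁻¹ * d) by group, h]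
  have hn := congrArg Subtype.val (pow_card_eq_one' (G := ↥O) (x := ⟨o * o, mul_mem ho ho⟩))
  simp only [Subgroup.coe_pow, Subgroup.coe_one] at hn
  obtain ⟨k, hk⟩ := hO.odd
  have ho1 : (o * o) ^ (k + 1) = o := by
    have h := congrArg Subtype.val (pow_card_eq_one' (G := ↥O) (x := ⟨o, ho⟩))
    simp only [Subgroup.coe_pow, Subgroup.coe_one] at h
    rw [← pow_two, ← pow_mul, show 2 * (k + 1) = Nat.card ↥O + 1 by omega, pow_succ, h, one_mul]
  rcases hO'.comm o hoK with h | h <;> rw [hsq] at h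
  · exact ho1 ▸ pow_mem h _
  · exfalso
    have hcom : Commute (o * o) (d * y) :=
      (Commute.mul_left (Subgroup.mem_centralizer_singleton_iff.1 hoK) (Subgroup.mem_centralizer_singleton_iff.1 hoK))
    have h2 := congrArg Subtype.val (pow_card_eq_one' (G := ↥O') (x := ⟨_, h⟩))
    simp only [Subgroup.coe_pow, Subgroup.coe_one] at h2
    have h3 := congrArg (· ^ Nat.card ↥O) h2
    simp only [one_pow] at h3
    rw [← pow_mul, hcom.mul_pow, mul_comm (Nat.card ↥O'), pow_mul, hn, one_pow, one_mul] at h3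
    exact hi1 (eq_one_of_odd (hO.odd.mul hO'.odd) h3 hii)

theorem eq_bot : O = ⊥ := by
  obtain ⟨hid', hit'⟩ := hH.inverts hd ht hO
  have hall : ∀ y ∈ nb D d, ∀ o ∈ O, y * o * y⁻¹ = o⁻¹ := by
    intro y hy
    by_cases he : y = t
    · exact he ▸ hit'
    obtain ⟨c, hc, hct, hcy, hcct, hccy⟩ := hH.common d hd t ht y hy
    obtain ⟨O₁, hO₁⟩ := hH.exists_oddPart hd hc
    intro o ho
    have h1 : o ∈ O₁ := hH.oddPart_le hd ht hO ⟨hc, hc.1, hct, hcct.symm⟩ hO₁ ho
    exact hH.inverts_com2 hd hc hO₁ ⟨hy, hy.1, hcy.symm, hccy⟩ o h1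
  have hZ : Subgroup.centralizer ({d} : Set G) ≤ Subgroup.centralizer (O : Set G) := by
    refine hH.le_of_pairs hd fun s hs r hr => Subgroup.mem_centralizer_iff.2 fun o ho => ?_
    have h : s * r * o * (s * r)⁻¹ = o := by
      rw [mul_inv_rev, show s * r * o * (r⁻¹ * s⁻¹) = s * (r * o * r⁻¹) * s⁻¹ by group, hall r hr o ho,
        hall s hs _ (inv_mem ho), inv_inv]
    exact (mul_inv_eq_iff_eq_mul.1 h).symm
  refine (Subgroup.eq_bot_iff_forall _).2 fun o ho => ?_
  have h := Subgroup.mem_centralizer_iff.1 (hZ (hH.self_mem_centralizer d)) o ho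
  have h' := hid' o ho
  rw [← h, mul_inv_cancel_right, eq_inv_iff_mul_eq_one] at h'
  exact eq_one_of_odd hO.odd (congrArg Subtype.val (pow_card_eq_one' (G := ↥O) (x := ⟨o, ho⟩))) h'

omit hO in
/-- The centraliser of `d t` permutes `d` and `t`. -/
theorem conj_of_commute {k : G} (hk : Commute k (d * t)) : k * d * k⁻¹ = d ∨ k * d * k⁻¹ = t := by
  obtain ⟨hii, -, -, -, -, -⟩ := hH.pair_facts hd ht
  obtain ⟨O, hO⟩ := hH.exists_oddPart hd ht
  have hbot := hH.eq_bot hd ht hO
  rcases hO.comm k (Subgroup.mem_centralizer_singleton_iff.2 hk.eq) with h | h <;>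
    rw [hbot, Subgroup.mem_bot] at h
  · left
    have := congrArg (· * d) h
    simpa [mul_assoc, hH.sq d hd] using this
  · right
    have := congrArg (· * ((d * t) * d)) h
    simp only [one_mul] at this
    calc k * d * k⁻¹ = k * d * k⁻¹ * d * (d * t) * ((d * t) * d) := by
          rw [show k * d * k⁻¹ * d * (d * t) * ((d * t) * d) = k * d * k⁻¹ * (d * ((d * t) * (d * t)) * d) by group,
            hii, mul_one, hH.sq d hd, mul_one]
      _ = d * t * d := this
      _ = t := by rw [ht.2.2.eq, hH.mul_mul_self hd]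

omit hO in
/-- Commuting with the product of two commuting members is commuting with both. -/
theorem commute_pair {b : G} (hb0 : b ∈ D) (hb : Commute b (d * t)) : Commute b d ∧ Commute b t := by
  obtain ⟨-, -, -, -, -, hdi⟩ := hH.pair_facts hd ht
  have h := hH.conj_of_commute hd ht hb
  rw [hH.inv_mem_eq hb0] at h
  rcases h with h | h
  · have h1 := (hH.sandwich_fix hb0).1 h
    exact ⟨h1, hdi ▸ h1.mul_right hb⟩
  · exact absurd h (hH.no_swap hd ht hb0)

end Hyp

end Cfsg.Agent.Lib.Fischer3T60.Recog
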