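import Cfsg.Agent.Lib.Fischer3T60.Recog.Core

/-!
# The class is a class of 3-transpositions
-/

set_option autoImplicit false

namespace Cfsg.Agent.Lib.Fischer3T60.Recog

open Cfsg Cfsg.Agent.Lib.ThreeTransp Cfsg.Agent.Lib.M22Struct66

variable {G : Type*} [Group G] [Finite G] {D : Set G}

omit [Finite G] in
/-- An involution inverting `x` moved by `x ^ n` is `x ^ (2 n)` times itself. -/
theorem conj_pow_inverted {d x : G} (hd : d * d = 1) (hx : d * x * d = x⁻¹) (n : ℕ) :
    x ^ n * d * (x ^ n)⁻¹ = x ^ (2 * n) * d := by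
  have hdinv : d⁻¹ = d := inv_eq_of_mul_eq_one_right hd
  have h : d * x ^ n * d = (x ^ n)⁻¹ := by
    rw [← inv_pow, ← hx]
    have := conj_pow (i := n) (a := d) (b := x)
    rw [hdinv] at this
    exact this.symm
  rw [← h, two_mul, pow_add,
    show x ^ n * d * (d * x ^ n * d) = x ^ n * (d * d) * x ^ n * d by group, hd, mul_one]

namespace Hyp

variable (hH : Hyp D)
include hH

omit [Finite G] in
theorem pow_comm_both {a b : G} (ha : a ∈ D) (hb : b ∈ D) {m : ℕ}
    (h2 : (a * b) ^ m * (a * b) ^ m = 1) : Commute a ((a * b) ^ m) ∧ Commute b ((a * b) ^ m) := by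
  have hai := hH.inv_mem_eq ha
  have hbi := hH.inv_mem_eq hb
  have hinv : ((a * b) ^ m)⁻¹ = (a * b) ^ m := inv_eq_of_mul_eq_one_right h2
  have e1 : a * (a * b) ^ m * a = ((a * b) ^ m)⁻¹ := by
    have := conj_pow (i := m) (a := a) (b := a * b)
    rw [hai, hH.mm_cancel ha] at this
    rw [← this, ← inv_pow, mul_inv_rev, hai, hbi]
  have e2 : b * (a * b) ^ m * b = ((a * b) ^ m)⁻¹ := by
    have := conj_pow (i := m) (a := b) (b := a * b)
    rw [hbi, show b * (a * b) * b = b * a * (b * b) by group, hH.sq b hb, mul_one] at this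
    rw [← this, ← inv_pow, mul_inv_rev, hai, hbi]
  rw [hinv] at e1 e2
  exact ⟨(hH.sandwich_fix ha).1 e1, (hH.sandwich_fix hb).1 e2⟩

theorem half_power {x : G} {m : ℕ} (hm : orderOf x = 2 * m) : x ^ m * x ^ m = 1 ∧ x ^ m ≠ 1 := by
  refine ⟨by rw [← pow_add, ← two_mul, ← hm, pow_orderOf_eq_one], fun h => ?_⟩
  have h1 := orderOf_pos x
  have := Nat.le_of_dvd (by omega) (orderOf_dvd_of_pow_eq_one h)
  omega

/-- Two members that do not commute have a product of odd order. -/
theorem odd_order {d b : G} (hd : d ∈ D) (hb : b ∈ D) (hdb : ¬ Commute d b) : Odd (orderOf (d * b)) := by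
  by_contra hev
  rw [Nat.not_odd_iff_even] at hev
  obtain ⟨m, hm⟩ := hev
  obtain ⟨h2, h1⟩ := hH.half_power (x := d * b) (m := m) (by omega)
  obtain ⟨hzd, hzb⟩ := hH.pow_comm_both hd hb h2
  set z := (d * b) ^ m
  have hxD : d * z ∈ D := hH.rot_mem hd hb m
  have hx : d * z ∈ nb D d := ⟨hxD, fun e => h1 (mul_eq_left.1 e), (Commute.refl d).mul_right hzd⟩
  exact hdb ((hH.commute_pair hd hx (b := b) hb (by rwa [hH.mm_cancel hd])).1).symm

/-- The member paired with `y` when `b` meets no common neighbour. -/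
noncomputable def mate (d b y : G) : G := d * y * (b * (d * y)) ^ (orderOf (b * (d * y)) / 2)

theorem mate_facts {d b y : G} (hd : d ∈ D) (hb : b ∈ D) (hdb : ¬ Commute d b) (hy : y ∈ nb D d)
    (hby : ¬ Commute b y) :
    (d * b) ^ 3 = 1 ∨ (mate d b y ∈ com2 D d y ∧ mate d b (mate d b y) = y) := by
  obtain ⟨hii, hi1, hid, hdK, hyK, hdi⟩ := hH.pair_facts hd hy
  set i := d * y with hi
  have hdd := hH.sq d hd
  have hbb := hH.sq b hb
  have hbi : ¬ Commute b i := fun h => hdb (hH.commute_pair hd hy hb h).1.symm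
  have hbinv := hH.inv_mem_eq hb
  have hiinv : i⁻¹ = i := inv_eq_of_mul_eq_one_right hii
  -- `b (b i) ^ n` is conjugate to `b` for even `n`, `i (b i) ^ n` for odd `n`
  have hconj : ∀ n : ℕ, b * (b * i) ^ (2 * n) ∈ D ∧ i * (b * i) ^ (2 * n + 1) ∈ D := by
    intro n
    induction n with
    | zero => exact ⟨by simpa using hb, by
        have := hH.conj i b hb
        rw [hiinv] at this
        simpa [mul_assoc] using this⟩
    | succ n ih =>
      have e1 : b * (b * i) ^ (2 * (n + 1)) = (b * i)⁻¹ * (b * (b * i) ^ (2 * n)) * (b * i)⁻¹⁻¹ := by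
        rw [inv_inv, show 2 * (n + 1) = 2 * n + 1 + 1 by ring, pow_succ, pow_succ', mul_inv_rev, hbinv, hiinv]
        simp only [mul_assoc, hH.mm_cancel hb]
      have e2 : i * (b * i) ^ (2 * (n + 1) + 1) = (b * i)⁻¹ * (i * (b * i) ^ (2 * n + 1)) * (b * i)⁻¹⁻¹ := by
        rw [inv_inv, show 2 * (n + 1) + 1 = (2 * n + 1) + 1 + 1 by ring, pow_succ, pow_succ', mul_inv_rev,
          hbinv, hiinv]
        simp only [mul_assoc, ← mul_assoc i i, hii, one_mul]
      rw [e1, e2]
      exact ⟨hH.conj _ _ ih.1, hH.conj _ _ ih.2⟩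
  obtain ⟨m, hm⟩ : Even (orderOf (b * i)) := by
    rw [← Nat.not_odd_iff_even]
    rintro ⟨m, hm⟩
    have h1 : (b * i) ^ (2 * m + 1) = 1 := by rw [← hm, pow_orderOf_eq_one]
    have hiD : i ∈ D := by
      have := (hconj m).2
      rwa [h1, mul_one] at this
    exact hH.two d hd y hy i ⟨hiD, hid, (Commute.refl d).mul_right hy.2.2⟩
      (by rw [hi, hy.2.2.eq, hH.mm_cancel hy.1])
  have hm' : orderOf (b * i) / 2 = m := by omega
  obtain ⟨hjj, hj1⟩ := hH.half_power (x := b * i) (m := m) (by omega)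
  set j := (b * i) ^ m with hj
  have hjb : Commute b j ∧ Commute i j := by
    have hinv : j⁻¹ = j := inv_eq_of_mul_eq_one_right hjj
    constructor
    · have := conj_pow (i := m) (a := b) (b := b * i)
      rw [hbinv, hH.mm_cancel hb] at this
      have e : b * j * b = j⁻¹ := by rw [hj, ← this, ← inv_pow, mul_inv_rev, hbinv, hiinv]
      rw [hinv] at e
      exact (hH.sandwich_fix hb).1 e
    · have := conj_pow (i := m) (a := i) (b := b * i)
      rw [hiinv, show i * (b * i) * i = i * b * (i * i) by group, hii, mul_one] at this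
      have e : i * j * i = j⁻¹ := by rw [← this, ← inv_pow, mul_inv_rev, hbinv, hiinv]
      rw [hinv] at e
      calc i * j = i * j * (i * i) := by rw [hii, mul_one]
        _ = (i * j * i) * i := by group
        _ = j * i := by rw [e]
  obtain ⟨hjb, hji⟩ := hjb
  rcases Nat.even_or_odd m with ⟨n, hn⟩ | ⟨n, hn⟩
  · left
    have hbjD : b * j ∈ D := by rw [hj, show m = 2 * n by omega]; exact (hconj n).1
    have hbj : b * j ∈ nb D b := ⟨hbjD, fun e => hj1 (mul_eq_left.1 e), (Commute.refl b).mul_right hjb⟩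
    have hib : i * b * i = b * j := by
      have h := hH.conj_of_commute hb hbj (k := i) (by rw [hH.mm_cancel hb]; exact hji)
      rw [hiinv] at h
      rcases h with h | h
      · refine absurd ?_ hbi
        calc b * i = i * b * i * i := by rw [h]
          _ = i * b := by rw [mul_assoc (i * b), hii, mul_one]
      · exact h
    have hjd : j * d * j⁻¹ = y := by
      refine (hH.conj_of_commute hd hy (k := j) hji.symm).resolve_left fun h => hdb ?_
      have : Commute d (b * (b * j)) := by
        rw [hH.mm_cancel hb]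
        exact (mul_inv_eq_iff_eq_mul.1 h).symm
      exact (hH.commute_pair hb hbj hd this).1
    have hjinv : j⁻¹ = j := inv_eq_of_mul_eq_one_right hjj
    rw [hjinv] at hjd
    set x := d * b with hx
    have hxinv : x⁻¹ = b * d := by rw [hx, mul_inv_rev, hbinv, hH.inv_mem_eq hd]
    have hbib : b * i * b = i * j := by
      calc b * i * b = b * (i * b * i) * i := by
            rw [show b * (i * b * i) * i = b * i * b * (i * i) by group, hii, mul_one]
        _ = j * i := by rw [hib, hH.mm_cancel hb]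
        _ = i * j := hji.eq.symm
    have hdjd : d * j * d = i * j := by
      calc d * j * d = d * (j * d * j) * j := by
            rw [show d * (j * d * j) * j = d * j * d * (j * j) by group, hjj, mul_one]
        _ = i * j := by rw [hjd]
    have hdid : d * i * d = i := by
      rw [Subgroup.mem_centralizer_singleton_iff.1 hdK, hH.mul_mul_self hd]
    have hxi : x * i * x⁻¹ = j := by
      rw [hxinv, hx, show d * b * i * (b * d) = d * (b * i * b) * d by group, hbib,
        show d * (i * j) * d = d * i * (d * d) * j * d by rw [hdd]; group,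
        show d * i * (d * d) * j * d = (d * i * d) * (d * j * d) by group, hdid, hdjd, ← mul_assoc, hii, one_mul]
    have hxj : x * j * x⁻¹ = i * j := by
      rw [hxinv, hx, show d * b * j * (b * d) = d * (b * j * b) * d by group, (hH.sandwich_fix hb).2 hjb, hdjd]
    have hx3 : Commute (x ^ 3) i := by
      have e : x ^ 3 * i * (x ^ 3)⁻¹ = i := by
        rw [show x ^ 3 * i * (x ^ 3)⁻¹ = x * (x * (x * i * x⁻¹) * x⁻¹) * x⁻¹ by
            simp only [pow_succ, pow_zero, one_mul, mul_inv_rev, mul_assoc], hxi, hxj,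
          show x * (i * j) * x⁻¹ = (x * i * x⁻¹) * (x * j * x⁻¹) by group, hxi, hxj, hji.eq, ← mul_assoc, hjj, one_mul]
      exact mul_inv_eq_iff_eq_mul.1 e
    have hinvx : d * x * d = x⁻¹ := by rw [hxinv, hx, hH.mm_cancel hd]
    have hodd := hH.odd_order hd hb hdb
    rcases hH.conj_of_commute hd hy hx3 with h | h <;> rw [conj_pow_inverted hdd hinvx] at h
    · rw [mul_eq_right] at h
      refine eq_one_of_odd hodd ?_ (by rw [← pow_add]; exact h)
      rw [← pow_mul, mul_comm, pow_mul, pow_orderOf_eq_one, one_pow]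
    · exfalso
      have h6 : x ^ (2 * 3) = i := by rw [hi, hy.2.2.eq, ← h, hH.mul_mul_self hd]
      refine hi1 (eq_one_of_odd hodd ?_ hii)
      rw [← h6, ← pow_mul, mul_comm, pow_mul, pow_orderOf_eq_one, one_pow]
  · right
    have hcD : i * j ∈ D := by rw [hj, hn]; exact (hconj n).2
    have hci : Commute (i * j) (d * y) := (Commute.refl i).mul_left hji.symm
    obtain ⟨hcd, hcy⟩ := hH.commute_pair hd hy hcD hci
    have hmate : mate d b y = i * j := by rw [mate, hm']
    have hjeq : j = i * (i * j) := by rw [← mul_assoc, hii, one_mul]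
    have hcd1 : i * j ≠ d := fun e => hby (by
      have : j = y := by rw [hjeq, e, hi, hy.2.2.eq, hH.mul_mul_self hd]
      exact this ▸ hjb)
    have hcy1 : i * j ≠ y := fun e => hdb (by
      have : j = d := by rw [hjeq, e, hi, hH.mul_mul_self hy.1]
      exact (this ▸ hjb).symm)
    have hc : i * j ∈ com2 D d y := ⟨⟨hcD, hcd1, hcd.symm⟩, hcD, hcy1, hcy.symm⟩
    refine ⟨hmate ▸ hc, ?_⟩
    rw [hmate, mate]
    have hjy : Commute j y := by
      rw [hjeq]; exact (show Commute i y from hy.2.2.mul_left (Commute.refl y)).mul_left hcy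
    have hdc : d * (i * j) = y * j := by rw [← mul_assoc, hdi]
    rw [hdc, show b * (y * j) = (b * y) * j by group]
    have hoy := hH.odd_order hb hy.1 hby
    have hcom : Commute (b * y) j := hjb.mul_left hjy.symm
    have ho2 : orderOf j = 2 := orderOf_eq_prime (by rw [pow_two, hjj]) hj1
    obtain ⟨k, hk⟩ := hoy
    have hord : orderOf (b * y * j) = (2 * k + 1) * 2 := by
      rw [hcom.orderOf_mul_eq_mul_orderOf_of_coprime, hk, ho2]
      rw [hk, ho2]
      exact Nat.coprime_two_right.2 ⟨k, rfl⟩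
    rw [hord, show (2 * k + 1) * 2 / 2 = 2 * k + 1 by omega, hcom.mul_pow, ← hk, pow_orderOf_eq_one, one_mul,
      hk, pow_succ, pow_mul, pow_two, hjj, one_pow, one_mul, mul_assoc, hjj, mul_one]

theorem cube_eq_one {d b : G} (hd : d ∈ D) (hb : b ∈ D) (hdb : ¬ Commute d b) : (d * b) ^ 3 = 1 := by
  classical
  have hne : b ≠ d := fun e => hdb (e ▸ Commute.refl d)
  by_cases hcom : ∃ y ∈ nb D d, Commute b y
  · obtain ⟨y, hy, hby⟩ := hcom
    refine cube_of_not_commute (hH.nbset y hy.1) (hH.nb_symm hd hy) ⟨hb, ?_, hby.symm⟩ hdb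
    exact fun e => hdb (e ▸ hy.2.2)
  push Not at hcom
  by_contra h3
  have hm : ∀ y ∈ nb D d, mate d b y ∈ com2 D d y ∧ mate d b (mate d b y) = y := fun y hy =>
    (hH.mate_facts hd hb hdb hy (hcom y hy)).resolve_left h3
  set S := (Set.toFinite (nb D d)).toFinset
  have key : (∑ _y ∈ S, (1 : ZMod 2)) = 0 := by
    refine Finset.sum_involution (fun y _ => mate d b y) (fun _ _ => rfl) ?_ ?_ ?_
    · intro y hy _ he
      rw [Set.Finite.mem_toFinset] at hy
      exact ((hm y hy).1.2.2.1) he
    · intro y hy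
      rw [Set.Finite.mem_toFinset] at hy ⊢
      exact (hm y hy).1.1
    · intro y hy
      rw [Set.Finite.mem_toFinset] at hy
      exact (hm y hy).2
  rw [Finset.sum_const, nsmul_one, ZMod.natCast_eq_zero_iff_even,
    ← Set.ncard_eq_toFinset_card _ (Set.toFinite _)] at key
  exact Nat.not_even_iff_odd.2 (hH.odd_nb d hd) key

theorem isSet : IsThreeTranspositionSet D := by
  refine ⟨fun x hx => orderOf_eq_prime (by rw [pow_two]; exact hH.sq x hx) (hH.ne_one x hx), fun x hx y hy => ?_⟩
  by_cases h : Commute x y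
  · left
    rw [h.mul_pow, pow_two, pow_two, hH.sq x hx, hH.sq y hy, one_mul]
  · exact Or.inr (hH.cube_eq_one hx hy h)

end Hyp

end Cfsg.Agent.Lib.Fischer3T60.Recog
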