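import Mathlib
import Cfsg.Agent.Lib.M22Struct66.Stab
import Cfsg.Agent.Lib.M22Struct66.Order
import Cfsg.Agent.Lib.M22Local2.PSUEleven

/-!
# Charts alone force 126 common neighbours of a non-commuting pair

With 192 the commuting graph would be strongly regular with parameters `(2542, 693, 180, 192)`, against
537 not being a square; with 198 the centraliser of an element of order 11 would be impossible.
Written by helper52 on helper60's plan.
-/

set_option autoImplicit false

namespace Cfsg.Agent.Lib.Fischer3T60.Recog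

open Cfsg Cfsg.Agent.Lib.PSUAut Cfsg.Agent.Lib.ThreeTransp Cfsg.Agent.Lib.ThreeTransp.PSUSix
open Cfsg.Agent.Lib.M22Struct66

attribute [local instance] Classical.propDecidable

section Linear

variable {α : Type*} [Fintype α]

/-- A rational operator on the functions of sum zero cannot square to 537 if their dimension is odd. -/
theorem no_sqrt537 (M : (α → ℚ) →ₗ[ℚ] (α → ℚ)) (hn : Fintype.card α = 2542)
    (hsum : ∀ f : α → ℚ, ∑ x, f x = 0 → ∑ x, M f x = 0)
    (hsq : ∀ f : α → ℚ, ∑ x, f x = 0 → M (M f) = (537 : ℚ) • f) : False := by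
  let S : (α → ℚ) →ₗ[ℚ] ℚ := ∑ x, LinearMap.proj x
  have hS : ∀ f, S f = ∑ x, f x := fun f => by simp [S]
  let L : ↥(LinearMap.ker S) →ₗ[ℚ] ↥(LinearMap.ker S) :=
    M.restrict fun f hf => by
      rw [LinearMap.mem_ker, hS] at hf ⊢
      exact hsum f hf
  have hsurj : Function.Surjective S := fun c => by
    obtain ⟨a⟩ : Nonempty α := Fintype.card_pos_iff.1 (by omega)
    exact ⟨Pi.single a c, by rw [hS, Finset.sum_pi_single']; simp⟩
  have hdim : Module.finrank ℚ ↥(LinearMap.ker S) = 2541 := by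
    have h := S.finrank_range_add_finrank_ker
    rw [LinearMap.range_eq_top.2 hsurj, finrank_top, Module.finrank_self, Module.finrank_fintype_fun_eq_card, hn] at h
    omega
  have hLL : L.comp L = (537 : ℚ) • LinearMap.id := by
    refine LinearMap.ext fun f => Subtype.ext ?_
    have := f.2
    rw [LinearMap.mem_ker, hS] at this
    simpa [L, LinearMap.restrict_apply] using hsq f.1 this
  have h := congrArg LinearMap.det hLL
  rw [LinearMap.det_comp, LinearMap.det_smul, LinearMap.det_id, mul_one, hdim,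
    show 2541 = 1270 + 1270 + 1 by norm_num, pow_add, pow_add, pow_one] at h
  have hsq : IsSquare ((537 : ℕ) : ℚ) := ⟨LinearMap.det L / 537 ^ 1270, by
    have h0 : (537 : ℚ) ^ 1270 ≠ 0 := pow_ne_zero _ (by norm_num)
    push_cast
    rw [div_mul_div_comm, h]
    field_simp⟩
  rw [Rat.isSquare_natCast_iff] at hsq
  obtain ⟨k, hk⟩ := hsq
  have : k ≤ 23 := by nlinarith
  interval_cases k <;> omega

end Linear

variable {G : Type*} [Group G] [Finite G] {D : Set G} {F : Type} [Field F] [Fintype F]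

/-- With 192 common neighbours the graph would be impossible. -/
theorem ne_192 (hD : Charted D F) {d c : G} (hd : d ∈ D) (hc : c ∈ D) (hdc : ¬ Commute d c) :
    (com2 D d c).ncard ≠ 192 := by
  intro h192
  obtain ⟨hX, hDn⟩ := hD.card_outside hd hc hdc
  rw [h192] at hX
  have hn : D.ncard = 2542 := by omega
  haveI : Fintype ↥D := Fintype.ofFinite _
  set N : ↥D → Finset ↥D := fun x => Finset.univ.filter fun y => (y : G) ≠ x ∧ Commute (x : G) y with hN
  have hcard : ∀ (S : Set G) (T : Finset ↥D), S ⊆ D → (∀ y, y ∈ T ↔ (y : G) ∈ S) → T.card = S.ncard := by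
    intro S T hS hT
    rw [← Set.ncard_coe_finset, ← Set.ncard_image_of_injective _ Subtype.val_injective]
    congr 1
    ext y
    constructor
    · rintro ⟨z, hz, rfl⟩
      exact (hT z).1 hz
    · intro hy
      exact ⟨⟨y, hS hy⟩, (hT _).2 hy, rfl⟩
  have hdeg : ∀ x : ↥D, (N x).card = 693 := fun x => by
    rw [← hD.ncard_nb x.2]
    refine hcard (nb D x) _ (fun y hy => hy.1) fun y => ?_
    simp [hN]
  have hinter : ∀ x z : ↥D, ((N x).filter fun y => z ∈ N y).card =
      if z = x then 693 else if z ∈ N x then 180 else 192 := by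
    intro x z
    have hset : (N x).filter (fun y => z ∈ N y) =
        Finset.univ.filter fun y : ↥D => (y : G) ∈ nb D x ∩ nb D z := by
      ext y
      simp only [hN, Finset.mem_filter, Finset.mem_univ, true_and, Set.mem_inter_iff, Set.mem_ofPred_eq, y.2]
      exact ⟨fun h => ⟨h.1, fun e => h.2.1 e.symm, h.2.2.symm⟩, fun h => ⟨h.1, fun e => h.2.1 e.symm, h.2.2.symm⟩⟩
    rw [hset, hcard (nb D x ∩ nb D z) _ (fun y hy => hy.1.1) (fun y => by simp)]
    by_cases hzx : z = x
    · rw [if_pos hzx, hzx, Set.inter_self, hD.ncard_nb x.2]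
    rw [if_neg hzx]
    by_cases hz : z ∈ N x
    · rw [if_pos hz]
      simp only [hN, Finset.mem_filter, Finset.mem_univ, true_and] at hz
      exact hD.ncard_com2_commute x.2 ⟨z.2, hz.1, hz.2⟩
    · rw [if_neg hz, ← h192]
      refine hD.ncard_com2_eq x.2 z.2 (fun hc' => hz ?_) hd hc hdc
      simp only [hN, Finset.mem_filter, Finset.mem_univ, true_and]
      exact ⟨fun e => hzx (Subtype.ext e), hc'⟩
  let A : (↥D → ℚ) →ₗ[ℚ] (↥D → ℚ) :=
    { toFun := fun f x => ∑ y ∈ N x, f y
      map_add' := fun f g => funext fun x => Finset.sum_add_distrib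
      map_smul' := fun a f => funext fun x => (Finset.mul_sum _ _ _).symm }
  have hAA : ∀ f : ↥D → ℚ, ∀ x, A (A f) x = 501 * f x - 12 * A f x + 192 * ∑ z, f z := by
    intro f x
    show ∑ y ∈ N x, ∑ z ∈ N y, f z = _
    have h1 : ∑ y ∈ N x, ∑ z ∈ N y, f z = ∑ z, (((N x).filter fun y => z ∈ N y).card : ℚ) * f z := by
      calc ∑ y ∈ N x, ∑ z ∈ N y, f z = ∑ y ∈ N x, ∑ z, if z ∈ N y then f z else 0 :=
            Finset.sum_congr rfl fun y _ => by rw [← Finset.sum_filter, Finset.filter_mem_eq_inter, Finset.univ_inter]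
        _ = ∑ z, ∑ y ∈ N x, if z ∈ N y then f z else 0 := Finset.sum_comm
        _ = _ := Finset.sum_congr rfl fun z _ => by rw [← Finset.sum_filter, Finset.sum_const, nsmul_eq_mul]
    rw [h1]
    have h2 : ∀ z, (((N x).filter fun y => z ∈ N y).card : ℚ) * f z =
        192 * f z + (if z = x then 501 * f z else 0) + (if z ∈ N x then -12 * f z else 0) := by
      intro z
      rw [hinter]
      by_cases hzx : z = x
      · have : z ∉ N x := by simp [hN, hzx]
        rw [if_pos hzx, if_pos hzx, if_neg this]; push_cast; ring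
      · by_cases hz : z ∈ N x <;> simp only [hzx, hz, if_false, if_true] <;> push_cast <;> ring
    simp only [h2, Finset.sum_add_distrib, Finset.sum_ite_eq', Finset.mem_univ, if_true, ← Finset.mul_sum,
      ← Finset.sum_filter, Finset.filter_mem_eq_inter, Finset.univ_inter]
    show _ = 501 * f x - 12 * (∑ y ∈ N x, f y) + _
    ring
  have hAsum : ∀ f : ↥D → ℚ, ∑ x, A f x = 693 * ∑ y, f y := by
    intro f
    show ∑ x, ∑ y ∈ N x, f y = _
    calc ∑ x, ∑ y ∈ N x, f y = ∑ y, ∑ x, if y ∈ N x then f y else 0 := by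
          rw [Finset.sum_comm]
          exact Finset.sum_congr rfl fun x _ => by
            rw [← Finset.sum_filter, Finset.filter_mem_eq_inter, Finset.univ_inter]
      _ = ∑ y, (693 : ℚ) * f y := Finset.sum_congr rfl fun y _ => by
          rw [← Finset.sum_filter, Finset.sum_const, nsmul_eq_mul, show (Finset.univ.filter fun x => y ∈ N x) = N y by
            ext x
            simp only [hN, Finset.mem_filter, Finset.mem_univ, true_and]
            exact ⟨fun h => ⟨fun e => h.1 e.symm, h.2.symm⟩, fun h => ⟨fun e => h.1 e.symm, h.2.symm⟩⟩, hdeg]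
          norm_num
      _ = _ := (Finset.mul_sum _ _ _).symm
  refine no_sqrt537 (A + (6 : ℚ) • LinearMap.id) ?_ ?_ ?_
  · rw [← Nat.card_eq_fintype_card, Nat.card_coe_set_eq, hn]
  · intro f hf
    simp [Finset.sum_add_distrib, hAsum, hf, ← Finset.mul_sum]
  · intro f hf
    funext x
    have := hAA f x
    simp [map_add, map_smul, this, hf]
    ring

/-- The members fixed by an element of prime order. -/
theorem ncard_fixed_modEq {p : ℕ} [Fact p.Prime] {T : Set G} {x : G} (hx : x ^ p = 1)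
    (hT : ∀ y ∈ T, x * y * x⁻¹ ∈ T) : {y | y ∈ T ∧ x * y = y * x}.ncard ≡ T.ncard [MOD p] := by
  haveI : Fintype T := Fintype.ofFinite _
  let f : T → T := fun y => ⟨x * y * x⁻¹, hT y y.2⟩
  have hf : Function.Injective f := fun a b e => Subtype.ext (by
    have e' : x * (a : G) * x⁻¹ = x * b * x⁻¹ := congrArg Subtype.val e
    simpa using e')
  let σ : Equiv.Perm T := Equiv.ofBijective f (Finite.injective_iff_bijective.1 hf)
  have hσ : ∀ (i : ℕ) (y : T), ((σ ^ i) y : G) = x ^ i * y * (x ^ i)⁻¹ := by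
    intro i
    induction i with
    | zero => simp
    | succ i ih =>
      intro y
      rw [pow_succ', Equiv.Perm.mul_apply]
      show x * ((σ ^ i) y : G) * x⁻¹ = _
      rw [ih, pow_succ' x]; group
  have h1 : σ ^ p ^ 1 = 1 := Equiv.ext fun y => Subtype.ext (by rw [pow_one, hσ, hx]; simp)
  have h2 := Equiv.Perm.card_compl_support_modEq h1
  rw [← Nat.card_eq_fintype_card, Nat.card_coe_set_eq] at h2
  have h3 : {y | y ∈ T ∧ x * y = y * x}.ncard = σ.supportᶜ.card := by
    rw [← Set.ncard_coe_finset, ← Set.ncard_image_of_injective _ Subtype.val_injective]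
    congr 1
    ext y
    constructor
    · rintro ⟨hy, hc⟩
      refine ⟨⟨y, hy⟩, ?_, rfl⟩
      simp only [Finset.coe_compl, Set.mem_compl_iff, Finset.mem_coe, Equiv.Perm.mem_support, not_not]
      exact Subtype.ext (show x * y * x⁻¹ = y from mul_inv_eq_iff_eq_mul.2 hc)
    · rintro ⟨z, hz, rfl⟩
      simp only [Finset.coe_compl, Set.mem_compl_iff, Finset.mem_coe, Equiv.Perm.mem_support, not_not] at hz
      exact ⟨z.2, mul_inv_eq_iff_eq_mul.1 (congrArg Subtype.val hz : x * (z : G) * x⁻¹ = z)⟩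
  rw [h3]
  exact h2

variable (hD : Charted D F) (hcent : ∀ d ∈ D, Subgroup.centralizer ({d} : Set G) = Subgroup.closure (nb D d))
include hD hcent

theorem self_mem {d : G} (hd : d ∈ D) : d ∈ Subgroup.closure (nb D d) :=
  hcent d hd ▸ Subgroup.mem_centralizer_singleton_iff.2 rfl

theorem chart_self {d : G} (hd : d ∈ D) (C : Chart D d F) : C.ψ ⟨d, self_mem hD hcent hd⟩ = 1 := by
  have hz : C.ψ ⟨d, self_mem hD hcent hd⟩ ∈ Subgroup.center (Cfsg.PSU 6 F 2) :=
    Subgroup.mem_center_iff.2 fun U => by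
      obtain ⟨q, rfl⟩ := C.surj U
      rw [← map_mul, ← map_mul]
      exact congrArg C.ψ (Subtype.ext (commute_of_mem_closure q.2).eq)
  rw [center_psu6 hD.card] at hz
  exact Subgroup.mem_bot.1 hz

/-- An element of order 11 commutes with no commuting pair of members. -/
theorem no_pair_eleven {d c : G} (hd : d ∈ D) (hc : c ∈ nb D d) {g : G} (hg : orderOf g = 11)
    (hgd : g * d = d * g) (hgc : g * c = c * g) : False := by
  have : Fact (Nat.Prime 11) := ⟨by norm_num⟩
  obtain ⟨C⟩ := hD.chart d hd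
  have hgH : g ∈ Subgroup.closure (nb D d) := hcent d hd ▸ Subgroup.mem_centralizer_singleton_iff.2 hgd
  have hg11 : g ^ 11 = 1 := hg ▸ pow_orderOf_eq_one g
  have hU : orderOf (C.ψ ⟨g, hgH⟩) = 11 := by
    refine orderOf_eq_prime (by rw [← map_pow, show (⟨g, hgH⟩ : ↥(Subgroup.closure (nb D d))) ^ 11 = 1 from
      Subtype.ext hg11, map_one]) fun h => ?_
    rcases C.ker _ h with e | e
    · rw [show g = 1 from e, orderOf_one] at hg; omega
    · rw [show g = d from e, hD.set.1 d hd] at hg; omega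
  obtain ⟨v, hv, hψ⟩ := C.mem c hc
  have hmem : (tv v : Cfsg.PSU 6 F 2) ∈ Subgroup.zpowers (C.ψ ⟨g, hgH⟩) := by
    rw [← M22Local2.centralizer_eq_zpowers hD.card hU, Subgroup.mem_centralizer_singleton_iff, ← hψ, ← map_mul,
      ← map_mul]
    exact congrArg C.ψ (Subtype.ext hgc.symm)
  have h11 : orderOf (tv v : Cfsg.PSU 6 F 2) ∣ 11 := hU ▸ (orderOf_dvd_of_mem_zpowers hmem)
  have h2 : orderOf (tv v : Cfsg.PSU 6 F 2) ∣ 2 :=
    orderOf_dvd_of_pow_eq_one (by rw [pow_two]; exact T_sq hD.card hv.2)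
  have h1 := Nat.dvd_gcd h11 h2
  rw [show Nat.gcd 11 2 = 1 by rfl, Nat.dvd_one, orderOf_eq_one_iff] at h1
  exact T_ne_one hD.card hv.1 hv.2 h1

/-- With 198 common neighbours the centraliser of an element of order 11 would be impossible. -/
theorem ne_198 {d c : G} (hd : d ∈ D) (hc : c ∈ D) (hdc : ¬ Commute d c) : (com2 D d c).ncard ≠ 198 := by
  intro h198
  obtain ⟨hX, hDn⟩ := hD.card_outside hd hc hdc
  rw [h198] at hX
  have hn : D.ncard = 2486 := by omega
  have : Fact (Nat.Prime 11) := ⟨by norm_num⟩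
  have hS := hD.set
  obtain ⟨C⟩ := hD.chart d hd
  obtain ⟨g, hg, hgd⟩ : ∃ g : G, orderOf g = 11 ∧ g * d = d * g := by
    have hdvd : 11 ∣ Nat.card (Cfsg.PSU 6 F 2) := by rw [card_psu6 hD.card]; norm_num
    have h2 : Nat.card (Cfsg.PSU 6 F 2) ∣ Nat.card ↥(Subgroup.closure (nb D d)) :=
      Subgroup.card_dvd_of_surjective C.ψ C.surj
    obtain ⟨x, hx⟩ := exists_prime_orderOf_dvd_card' 11 (hdvd.trans h2)
    exact ⟨x, by rw [Subgroup.orderOf_coe]; exact hx, commute_of_mem_closure x.2⟩
  set Fx := {y | y ∈ D ∧ g * y = y * g} with hFx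
  have hmod : Fx.ncard ≡ 0 [MOD 11] := (ncard_fixed_modEq (hg ▸ pow_orderOf_eq_one g) (fun y hy => hD.conj g y hy)).trans
    (Nat.modEq_zero_iff_dvd.2 (by rw [hn]; norm_num))
  have hnc : ∀ f ∈ Fx, f ≠ d → ¬ Commute d f := fun f hf hne hcom =>
    no_pair_eleven hD hcent hd ⟨hf.1, hne, hcom⟩ hg hgd hf.2
  set R := Subgroup.centralizer ({g} : Set G)
  have hdR : d ∈ R := Subgroup.mem_centralizer_singleton_iff.2 hgd.symm
  -- a member of the centraliser carrying `d` to a fixed member
  let w : G → G := fun f => if f = d then 1 else d * f * d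
  have hw : ∀ f ∈ Fx, w f ∈ R ∧ w f * d * (w f)⁻¹ = f ∧ (w f = 1 ∨ (w f * w f = 1 ∧ (w f * d) ^ 3 = 1)) := by
    intro f hf
    by_cases he : f = d
    · simp [w, he, one_mem]
    have hfR : f ∈ R := Subgroup.mem_centralizer_singleton_iff.2 hf.2.symm
    have hbr := braid hS hd hf.1 (hnc f hf he)
    have hdd := mul_self hS hd
    have hff := mul_self hS hf.1
    have hinv : (d * f * d)⁻¹ = d * f * d := by
      rw [_root_.mul_inv_rev, _root_.mul_inv_rev, inv_eq hS hd, inv_eq hS hf.1, mul_assoc]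
    have hsq : d * f * d * (d * f * d) = 1 := by
      simp [mul_assoc, mul_self_assoc hS hd, mul_self_assoc hS hf.1, hdd]
    have hconj : d * f * d * d * (d * f * d) = f := by
      calc d * f * d * d * (d * f * d) = d * f * (d * d) * (d * f * d) := by group
        _ = d * f * (f * d * f) := by rw [hdd, mul_one, hbr]
        _ = f := by simp [mul_assoc, mul_self_assoc hS hd, mul_self_assoc hS hf.1]
    have hcube : (d * f * d * d) ^ 3 = 1 := by
      have : d * f * d * d = d * f := by rw [mul_assoc (d * f), hdd, mul_one]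
      rw [this]
      calc (d * f) ^ 3 = (d * f * d) * (f * d * f) := by simp only [pow_succ, pow_zero, one_mul, mul_assoc]
        _ = 1 := by rw [← hbr, hsq]
    simp only [w, if_neg he]
    exact ⟨mul_mem (mul_mem hdR hfR) hdR, by rw [hinv]; exact hconj, Or.inr ⟨hsq, hcube⟩⟩
  have hfx : ∀ r ∈ R, r * d * r⁻¹ ∈ Fx := fun r hr =>
    ⟨hD.conj r d hd, (Subgroup.mem_centralizer_singleton_iff.1 (R.mul_mem (R.mul_mem hr hdR) (R.inv_mem hr))).symm⟩
  set S := R ⊓ Subgroup.centralizer ({d} : Set G)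
  have hrep : ∀ r ∈ R, (w (r * d * r⁻¹))⁻¹ * r ∈ S := by
    intro r hr
    obtain ⟨h1, h2, -⟩ := hw _ (hfx r hr)
    refine ⟨R.mul_mem (R.inv_mem h1) hr, Subgroup.mem_centralizer_singleton_iff.2 ?_⟩
    set u := w (r * d * r⁻¹)
    calc u⁻¹ * r * d = u⁻¹ * (r * d * r⁻¹) * r := by group
      _ = u⁻¹ * (u * d * u⁻¹) * r := by rw [h2]
      _ = d * (u⁻¹ * r) := by group
  have hgS : g ∈ S := ⟨Subgroup.mem_centralizer_singleton_iff.2 rfl, Subgroup.mem_centralizer_singleton_iff.2 hgd⟩
  have hcardR : Nat.card ↥R = Fx.ncard * Nat.card ↥S := by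
    rw [← Nat.card_coe_set_eq, ← Nat.card_prod]
    refine Nat.card_congr
      ⟨fun r => (⟨_, hfx r.1 r.2⟩, ⟨_, hrep r.1 r.2⟩),
       fun p => ⟨w p.1.1 * p.2.1, mul_mem (hw _ p.1.2).1 p.2.2.1⟩,
       fun r => Subtype.ext (mul_inv_cancel_left _ _), fun p => ?_⟩
    obtain ⟨⟨f, hf⟩, ⟨s, hs⟩⟩ := p
    have hsd := Subgroup.mem_centralizer_singleton_iff.1 hs.2
    have hfd : w f * s * d * (w f * s)⁻¹ = f := by
      calc w f * s * d * (w f * s)⁻¹ = w f * (s * d * s⁻¹) * (w f)⁻¹ := by group
        _ = f := by rw [hsd, mul_inv_cancel_right, (hw f hf).2.1]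
    exact Prod.ext (Subtype.ext hfd) (Subtype.ext (by simp only [hfd, inv_mul_cancel_left]))
  have h121 : 11 ^ 2 ∣ Nat.card ↥R := by
    rw [hcardR, pow_two]
    refine Nat.mul_dvd_mul (Nat.modEq_zero_iff_dvd.1 hmod) ?_
    rw [← hg]
    exact Subgroup.orderOf_dvd_natCard S hgS
  -- every element has square or cube in the group of `g`
  have hsmall : ∀ r ∈ R, r ^ 11 ^ 2 = 1 → r ∈ Subgroup.zpowers g := by
    intro r hr hr121
    have hS2 : ∀ s ∈ S, s ∈ Subgroup.zpowers g ∨ s * d ∈ Subgroup.zpowers g := by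
      intro s hs
      have hsH : s ∈ Subgroup.closure (nb D d) := hcent d hd ▸ hs.2
      have hgH : g ∈ Subgroup.closure (nb D d) := hcent d hd ▸ hgS.2
      have hg11 : g ^ 11 = 1 := hg ▸ pow_orderOf_eq_one g
      have hU : orderOf (C.ψ ⟨g, hgH⟩) = 11 := by
        refine orderOf_eq_prime (by rw [← map_pow, show (⟨g, hgH⟩ : ↥(Subgroup.closure (nb D d))) ^ 11 = 1 from
          Subtype.ext hg11, map_one]) fun h => ?_
        rcases C.ker _ h with e | e
        · rw [show g = 1 from e, orderOf_one] at hg; omega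
        · rw [show g = d from e, hS.1 d hd] at hg; omega
      have hmem : C.ψ ⟨s, hsH⟩ ∈ Subgroup.zpowers (C.ψ ⟨g, hgH⟩) := by
        rw [← M22Local2.centralizer_eq_zpowers hD.card hU, Subgroup.mem_centralizer_singleton_iff, ← map_mul,
          ← map_mul]
        exact congrArg C.ψ (Subtype.ext (Subgroup.mem_centralizer_singleton_iff.1 hs.1))
      obtain ⟨k, hk⟩ := hmem
      have hz : C.ψ ((⟨g, hgH⟩ : ↥(Subgroup.closure (nb D d))) ^ (-k) * ⟨s, hsH⟩) = 1 := by
        rw [map_mul, map_zpow, ← show (C.ψ ⟨g, hgH⟩) ^ k = C.ψ ⟨s, hsH⟩ from hk, ← zpow_add, neg_add_cancel,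
          zpow_zero]
      rcases C.ker _ hz with e | e
      · left
        change g ^ (-k) * s = 1 at e
        rw [mul_eq_one_iff_eq_inv'] at e
        exact e ▸ inv_mem (zpow_mem (Subgroup.mem_zpowers g) _)
      · right
        change g ^ (-k) * s = d at e
        rw [show s = g ^ k * d by rw [← (mul_inv_cancel_left (g ^ k) s), ← zpow_neg, e], mul_assoc,
          mul_self hS hd, mul_one]
        exact zpow_mem (Subgroup.mem_zpowers g) _
    obtain ⟨h1, -, h3⟩ := hw _ (hfx r hr)
    set u := w (r * d * r⁻¹)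
    obtain ⟨a, c₀, ha, hc0, hr0⟩ : ∃ a c₀ : G, (a ^ 2 = 1 ∨ a ^ 3 = 1) ∧ c₀ ∈ Subgroup.zpowers g ∧
        (r = a * c₀ ∧ Commute a c₀) := by
      have hgu : ∀ a ∈ R, ∀ c₀ ∈ Subgroup.zpowers g, Commute a c₀ := by
        rintro a ha _ ⟨k, rfl⟩
        exact Commute.zpow_right (Subgroup.mem_centralizer_singleton_iff.1 ha) k
      rcases hS2 _ (hrep r hr) with hs | hs
      · refine ⟨u, _, ?_, hs, (mul_inv_cancel_left u r).symm, hgu u h1 _ hs⟩
        rcases h3 with h | h
        · left; rw [h, one_pow]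
        · left; rw [pow_two]; exact h.1
      · refine ⟨u * d, _, ?_, hs, ?_, hgu _ (mul_mem h1 hdR) _ hs⟩
        · rcases h3 with h | h
          · left; rw [h, one_mul, pow_two]; exact mul_self hS hd
          · exact Or.inr h.2
        · have hsd := Subgroup.mem_centralizer_singleton_iff.1 (hrep r hr).2
          rw [hsd, mul_assoc u, mul_self_assoc hS hd]
          exact (mul_inv_cancel_left u r).symm
    obtain ⟨hre, hac⟩ := hr0
    have hc11 : c₀ ^ 11 ^ 2 = 1 := by
      obtain ⟨k, rfl⟩ := hc0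
      show (g ^ k) ^ 11 ^ 2 = 1
      rw [← zpow_natCast, zpow_comm, zpow_natCast, pow_two, pow_mul,
        show g ^ 11 = 1 from hg ▸ pow_orderOf_eq_one g, one_pow, one_zpow]
    have ha1 : a = 1 := by
      rw [hre, hac.mul_pow, hc11, mul_one] at hr121
      rcases ha with h | h
      · have := Nat.dvd_gcd (orderOf_dvd_of_pow_eq_one hr121) (orderOf_dvd_of_pow_eq_one h)
        rwa [show Nat.gcd (11 ^ 2) 2 = 1 by rfl, Nat.dvd_one, orderOf_eq_one_iff] at this
      · have := Nat.dvd_gcd (orderOf_dvd_of_pow_eq_one hr121) (orderOf_dvd_of_pow_eq_one h)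
        rwa [show Nat.gcd (11 ^ 2) 3 = 1 by rfl, Nat.dvd_one, orderOf_eq_one_iff] at this
    rw [hre, ha1, one_mul]
    exact hc0
  obtain ⟨P, hP⟩ := Sylow.exists_subgroup_card_pow_prime 11 h121
  have hle : P.map R.subtype ≤ Subgroup.zpowers g := by
    rintro _ ⟨r, hr, rfl⟩
    refine hsmall r.1 r.2 ?_
    have := congrArg Subtype.val (pow_card_eq_one' (x := (⟨r, hr⟩ : ↥P)))
    rw [hP] at this
    exact congrArg Subtype.val this
  have := Subgroup.card_le_of_le hle
  rw [Subgroup.card_map_of_injective Subtype.val_injective, hP, Nat.card_zpowers, hg] at this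
  norm_num at this

/-- Charts whose centralisers are generated by the neighbours carry the count. -/
theorem counted_of_charted : Counted D F :=
  ⟨hD, fun _ hx _ hy hxy => by
    rcases hD.com2_cases hx hy hxy with h | h | h
    · exact h
    · exact absurd h (ne_192 hD hx hy hxy)
    · exact absurd h (ne_198 hD hcent hx hy hxy)⟩

end Cfsg.Agent.Lib.Fischer3T60.Recog
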