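import Cfsg.Agent.Lib.Fischer3T60.Recog.Order3

/-!
# Generation, primitivity and the standing hypotheses of type M(22)
-/

set_option autoImplicit false

namespace Cfsg.Agent.Lib.Fischer3T60.Recog

open Cfsg Cfsg.Agent.Lib.ThreeTransp Cfsg.Agent.Lib.M22Struct66

variable {G : Type*} [Group G] [Finite G] {D : Set G}

namespace Hyp

variable (hH : Hyp D) {d₀ : G} (hd₀ : d₀ ∈ D)
include hH hd₀

omit [Finite G] hd₀ in
theorem exists_nb_not_commute {d b : G} (hd : d ∈ D) (hdb : ¬ Commute d b) :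
    ∃ y ∈ nb D d, ¬ Commute b y := by
  by_contra! h
  exact hdb (Subgroup.mem_centralizer_singleton_iff.1 (hH.centralizer_le_of_nb hd
    (H := Subgroup.centralizer ({b} : Set G))
    (fun y hy => Subgroup.mem_centralizer_singleton_iff.2 (h y hy).eq.symm) (hH.self_mem_centralizer d)))

theorem closure_eq_top : Subgroup.closure D = ⊤ := by
  set L := Subgroup.closure D
  have hC : ∀ x ∈ D, Subgroup.centralizer ({x} : Set G) ≤ L := fun x hx =>
    hH.centralizer_le_of_nb hx fun y hy => Subgroup.subset_closure hy.1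
  have hS := hH.isSet
  have hconj : ∀ y ∈ D, ∃ l ∈ L, l * d₀ * l⁻¹ = y := by
    intro y hy
    by_cases hc : Commute d₀ y
    · by_cases he : y = d₀
      · exact ⟨1, one_mem _, by simp [he]⟩
      · obtain ⟨a, ha, hay', -, hay, -⟩ := hH.common d₀ hd₀ y ⟨hy, he, hc⟩ y ⟨hy, he, hc⟩
        obtain ⟨g, hg, hgy⟩ := hH.nbtrans a ha.1 d₀ (hH.nb_symm hd₀ ha) y ⟨hy, hay'.symm, hay⟩
        exact ⟨g, hC a ha.1 (Subgroup.mem_centralizer_singleton_iff.2 hg.eq), hgy⟩
    · refine ⟨d₀ * y, mul_mem (Subgroup.subset_closure hd₀) (Subgroup.subset_closure hy), ?_⟩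
      have hb := braid hS hd₀ hy hc
      rw [mul_inv_rev, hH.inv_mem_eq hy, hH.inv_mem_eq hd₀]
      rw [show d₀ * y * d₀ * (y * d₀) = (d₀ * y * d₀) * y * d₀ by group, hb, hH.mul_mul_self hy,
        hH.mul_mul_self hd₀]
  rw [eq_top_iff]
  intro g _
  obtain ⟨l, hl, hly⟩ := hconj _ (hH.conj g d₀ hd₀)
  have : l⁻¹ * g ∈ L := by
    refine hC d₀ hd₀ (Subgroup.mem_centralizer_singleton_iff.2 ?_)
    calc l⁻¹ * g * d₀ = l⁻¹ * (g * d₀ * g⁻¹) * g := by group
      _ = d₀ * (l⁻¹ * g) := by rw [← hly]; group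
  simpa using mul_mem hl this

theorem isGroup : IsThreeTranspositionGroup D :=
  ⟨hH.isSet, hH.conj, hH.closure_eq_top hd₀⟩

omit [Finite G] hd₀ in
theorem conjugatesOf_eq {d : G} (hd : d ∈ D) : D = conjugatesOf d := by
  ext y
  constructor
  · intro hy
    obtain ⟨g, hg⟩ := hH.trans d hd y hy
    exact isConj_iff.2 ⟨g, hg⟩
  · intro hy
    obtain ⟨g, rfl⟩ := isConj_iff.1 (show IsConj d y from hy)
    exact hH.conj g d hd

theorem isClass : IsThreeTranspositionClass D :=
  ⟨hH.isSet, ⟨d₀, hd₀, hH.conjugatesOf_eq hd₀⟩, hH.closure_eq_top hd₀⟩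

theorem exists_noncommuting : ∃ b ∈ D, ¬ Commute d₀ b := by
  by_contra! h
  obtain ⟨a, ha⟩ := hH.nb_nonempty hd₀
  obtain ⟨b, hb, hab⟩ := hH.exists_partner hd₀ ha
  obtain ⟨g, hg⟩ := hH.trans d₀ hd₀ a ha.1
  refine hab ?_
  have := h (g⁻¹ * b * g) (by simpa using hH.conj g⁻¹ b hb.1)
  have := (commute_conj_iff g).2 this
  rwa [hg, show g * (g⁻¹ * b * g) * g⁻¹ = b by group] at this

theorem center_eq_bot : Subgroup.center G = ⊥ := by
  rw [Subgroup.eq_bot_iff_forall]
  intro z hz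
  have hzc : ∀ g, Commute z g := fun g => (Subgroup.mem_center_iff.1 hz g).symm
  rcases hH.central d₀ hd₀ z (hzc d₀) fun y _ => (hzc y).symm with h | h
  · exact h
  · obtain ⟨b, -, hb⟩ := hH.exists_noncommuting hd₀
    exact absurd (h ▸ hzc b) hb

theorem isPrimitive : IsPrimitiveUnderConj D := by
  have hS := hH.isSet
  refine ⟨hH.trans, ?_, fun B hBD hblk => ?_⟩
  · obtain ⟨a, ha⟩ := hH.nb_nonempty hd₀
    exact ⟨d₀, hd₀, a, ha.1, ha.2.1.symm⟩
  set cj : G → Set G := fun g => (fun x => g * x * g⁻¹) '' B with hcj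
  have hfix : ∀ g : G, ∀ x ∈ B, g * x * g⁻¹ ∈ B → cj g = B := fun g x hx hgx =>
    (hblk g).resolve_right fun hdis => Set.disjoint_left.1 hdis ⟨x, hx, rfl⟩ hgx
  have hstab : ∀ x ∈ B, ∀ g : G, Commute g x → ∀ w ∈ B, g * w * g⁻¹ ∈ B := fun x hx g hg w hw =>
    hfix g x hx (by rwa [hg.eq, mul_inv_cancel_right]) ▸ ⟨w, hw, rfl⟩
  have hsand : ∀ x ∈ B, ∀ y ∈ nb D x, ∀ w ∈ B, y * w * y ∈ B := fun x hx y hy w hw => by
    have := hstab x hx y hy.2.2.symm w hw
    rwa [hH.inv_mem_eq hy.1] at this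
  by_cases hA : ∃ x ∈ B, ∃ y ∈ nb D x, y ∈ B
  · obtain ⟨x, hx, y, hy, hyB⟩ := hA
    have hnbx : ∀ z ∈ nb D x, z ∈ B := fun z hz => by
      obtain ⟨g, hg, rfl⟩ := hH.nbtrans x (hBD hx) y hy z hz
      exact hstab x hx g hg y hyB
    have hnb : ∀ w ∈ B, ∀ z ∈ nb D w, z ∈ B := by
      intro w hw z hz
      obtain ⟨g, rfl⟩ := hH.trans x (hBD hx) w (hBD hw)
      have hz' : g⁻¹ * z * g ∈ nb D x := by
        have := hH.nb_conj g⁻¹ hz
        rwa [inv_inv, show g⁻¹ * (g * x * g⁻¹) * g = x by group] at this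
      rw [← hfix g x hx hw]
      exact ⟨_, hnbx _ hz', by group⟩
    right
    refine Set.Subset.antisymm hBD fun b hb => ?_
    by_contra hbB
    have hnc : ∀ w ∈ B, ¬ Commute w b := fun w hw h =>
      hbB (hnb w hw b ⟨hb, fun e => hbB (e ▸ hw), h⟩)
    obtain ⟨h, hh⟩ := hH.trans x (hBD hx) b hb
    have hsw : ∀ z ∈ nb D x, cj (z * h) = cj b := by
      intro z hz
      have hzB := hnbx z hz
      have hmem1 : z * b * z ∈ cj (z * h) := by
        refine ⟨x, hx, ?_⟩
        show z * h * x * (z * h)⁻¹ = z * b * z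
        rw [← hh, mul_inv_rev, hH.inv_mem_eq hz.1]
        group
      have hmem2 : z * b * z ∈ cj b := by
        refine ⟨z, hzB, ?_⟩
        show b * z * b⁻¹ = z * b * z
        rw [hH.inv_mem_eq hb]
        exact (braid hS hz.1 hb (hnc z hzB)).symm
      obtain ⟨w, hw, hwe⟩ := hmem1
      obtain ⟨w', hw', hwe'⟩ := hmem2
      have key : cj (b⁻¹ * (z * h)) = B := hfix _ w hw (by
        rw [show b⁻¹ * (z * h) * w * (b⁻¹ * (z * h))⁻¹ = b⁻¹ * (z * h * w * (z * h)⁻¹) * b by group]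
        have e : z * h * w * (z * h)⁻¹ = b * w' * b⁻¹ := hwe.trans hwe'.symm
        rw [e, show b⁻¹ * (b * w' * b⁻¹) * b = w' by group]
        exact hw')
      calc cj (z * h) = (fun u => b * u * b⁻¹) '' cj (b⁻¹ * (z * h)) := by
            simp only [hcj, Set.image_image]
            congr 1; funext u; group
        _ = cj b := by rw [key]
    let Z : Subgroup G :=
      { carrier := {c | cj (c * h) = cj h}
        one_mem' := by simp
        mul_mem' := fun {a c} (ha : cj (a * h) = cj h) (hc : cj (c * h) = cj h) => by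
          show cj (a * c * h) = cj h
          have e : ∀ g k, cj (g * k) = (fun u => g * u * g⁻¹) '' cj k := fun g k => by
            simp only [hcj, Set.image_image]; congr 1; funext u; group
          rw [mul_assoc, e, hc, ← e, ha]
        inv_mem' := fun {a} (ha : cj (a * h) = cj h) => by
          show cj (a⁻¹ * h) = cj h
          have e : ∀ g k, cj (g * k) = (fun u => g * u * g⁻¹) '' cj k := fun g k => by
            simp only [hcj, Set.image_image]; congr 1; funext u; group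
          conv_lhs => rw [e, ← ha, ← e]
          rw [inv_mul_cancel_left] }
    have hZ := hH.le_of_pairs (hBD hx) (Z := Z) fun s hs r hr => by
      show cj (s * r * h) = cj h
      have e : ∀ g k, cj (g * k) = (fun u => g * u * g⁻¹) '' cj k := fun g k => by
        simp only [hcj, Set.image_image]; congr 1; funext u; group
      rw [mul_assoc, e, hsw r hr, ← hsw s hs, ← e, ← mul_assoc, hH.sq s hs.1, one_mul]
    have hxh : cj (x * h) = cj h := hZ (hH.self_mem_centralizer x)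
    have h1 : x * b * x ∈ cj h := hxh ▸ ⟨x, hx, by
      show x * h * x * (x * h)⁻¹ = x * b * x
      rw [← hh, mul_inv_rev, hH.inv_mem_eq (hBD hx)]; group⟩
    have h2 : x * b * x ∈ cj b := ⟨x, hx, by
      show b * x * b⁻¹ = x * b * x
      rw [hH.inv_mem_eq hb]
      exact (braid hS (hBD hx) hb (hnc x hx)).symm⟩
    obtain ⟨w, hw, hwe⟩ := h1
    obtain ⟨w', hw', hwe'⟩ := h2
    have key : cj (b⁻¹ * h) = B := hfix _ w hw (by
      have e : h * w * h⁻¹ = b * w' * b⁻¹ := hwe.trans hwe'.symm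
      rw [show b⁻¹ * h * w * (b⁻¹ * h)⁻¹ = b⁻¹ * (h * w * h⁻¹) * b by group, e,
        show b⁻¹ * (b * w' * b⁻¹) * b = w' by group]
      exact hw')
    refine hbB (key ▸ ⟨x, hx, ?_⟩)
    show b⁻¹ * h * x * (b⁻¹ * h)⁻¹ = b
    rw [show b⁻¹ * h * x * (b⁻¹ * h)⁻¹ = b⁻¹ * (h * x * h⁻¹) * b by group, hh]
    group
  · left
    intro d hd b hb
    by_contra hne
    push Not at hA
    have hdb : ¬ Commute d b := fun h => hA d hd b ⟨hBD hb, Ne.symm hne, h⟩ hb
    obtain ⟨y, hy, hby⟩ := hH.exists_nb_not_commute (hBD hd) hdb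
    have h1 := hsand d hd y hy b hb
    rw [braid hS hy.1 (hBD hb) (fun h => hby h.symm)] at h1
    have h2 := hstab b hb b (Commute.refl b) _ h1
    rw [hH.inv_mem_eq (hBD hb), hH.sandwich_sandwich (hBD hb)] at h2
    exact hA d hd y hy h2

theorem ctx (hbig : 2 ^ 15 ∣ Nat.card ↥(Subgroup.centralizer ({d₀} : Set G))) : Ctx D := by
  have hS := hH.isSet
  refine ⟨hH.isGroup hd₀, hH.isPrimitive hd₀,
    ⟨hH.center_eq_bot hd₀, fun a ha b hb hab => ?_, fun N hN x hx hxN => ?_,
      hbig.trans (Subgroup.card_subgroup_dvd_card _)⟩, ?_, ?_⟩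
  · by_contra hne
    have hbn : b ∈ nb D a := ⟨hb, Ne.symm hne, ((hab a ha).1 (Commute.refl a)).symm⟩
    rcases hH.central a ha b hbn.2.2.symm fun y hy => ((hab y hy.1).1 hy.2.2).symm with h | h
    exacts [hH.ne_one b hb h, hne h.symm]
  · rw [← top_le_iff, ← hH.closure_eq_top hd₀, Subgroup.closure_le]
    intro y hy
    obtain ⟨g, rfl⟩ := hH.trans x hx y hy
    exact hN.conj_mem x hxN g
  all_goals
    intro l hnd hlen hmem hcomm hp
    match l, hlen with
    | a :: r, hlen =>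
      have haD := hmem a (by simp)
      have hr : ∀ v ∈ r, v ∈ nb D a := fun v hv => ⟨hmem v (by simp [hv]),
        fun e => (List.nodup_cons.1 hnd).1 (e ▸ hv), hcomm a (by simp) v (by simp [hv])⟩
      have hc : ∀ u ∈ r, ∀ v ∈ r, Commute u v := fun u hu v hv => hcomm u (by simp [hu]) v (by simp [hv])
      rw [List.prod_cons, hH.mul_eq_one_iff haD] at hp
      first
        | exact hH.four a haD r (List.nodup_cons.1 hnd).2 (by simpa using hlen) hr hc hp
        | (obtain ⟨b, c, e, rfl⟩ := List.length_eq_three.1 (show r.length = 3 by simpa using hlen)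
           exact hH.three a haD b (hr b (by simp)) c (hr c (by simp)) e (hr e (by simp))
             (List.nodup_cons.1 hnd).2 (hc b (by simp) c (by simp)) (hc b (by simp) e (by simp))
             (hc c (by simp) e (by simp)) (by rw [← hp]; simp [mul_assoc]))

end Hyp

end Cfsg.Agent.Lib.Fischer3T60.Recog
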