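import Cfsg.Agent.Lib.M22Struct66.Orbit

/-!
# A class whose neighbour sets are sets of 3-transpositions: hypotheses and first facts
-/

set_option autoImplicit false

namespace Cfsg.Agent.Lib.Fischer3T60.Recog

open Cfsg Cfsg.Agent.Lib.ThreeTransp Cfsg.Agent.Lib.M22Struct66

variable {G : Type*} [Group G]

/-- Five members of `S` with trivial product up to `x`: the points of a line through `a` and `b`. -/
structure Line (S : Set G) (x a b u w s : G) : Prop where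
  nodup : [a, b, u, w, s].Nodup
  mem : ∀ v ∈ [a, b, u, w, s], v ∈ S
  comm : ∀ v ∈ [a, b, u, w, s], ∀ v' ∈ [a, b, u, w, s], Commute v v'
  prod : [a, b, u, w, s].prod = 1 ∨ [a, b, u, w, s].prod = x
  closed : ∀ p ∈ [a, b, u, w, s], ∀ q ∈ [a, b, u, w, s], p ≠ q →
    ∀ z ∈ S, Commute z p → Commute z q → ∀ v ∈ [a, b, u, w, s], Commute z v
  max : ∀ v ∈ S, (∀ z ∈ S, Commute z a → Commute z b → Commute z v) → v ∈ [a, b, u, w, s]

/-- What is known about the members commuting with one member before `D` is known to be 3-transpositions. -/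
structure Hyp (D : Set G) : Prop where
  sq : ∀ x ∈ D, x * x = 1
  ne_one : ∀ x ∈ D, x ≠ 1
  conj : ∀ g : G, ∀ x ∈ D, g * x * g⁻¹ ∈ D
  trans : ∀ x ∈ D, ∀ y ∈ D, ∃ g : G, g * x * g⁻¹ = y
  nbset : ∀ x ∈ D, IsThreeTranspositionSet (nb D x)
  gen : ∀ x ∈ D, Subgroup.closure (nb D x) = Subgroup.centralizer ({x} : Set G)
  perfect : ∀ x ∈ D, commutator ↥(Subgroup.centralizer ({x} : Set G)) = ⊤
  central : ∀ x ∈ D, ∀ z : G, Commute z x → (∀ y ∈ nb D x, Commute y z) → z = 1 ∨ z = x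
  two : ∀ x ∈ D, ∀ a ∈ nb D x, ∀ b ∈ nb D x, a * b ≠ x
  three : ∀ x ∈ D, ∀ a ∈ nb D x, ∀ b ∈ nb D x, ∀ c ∈ nb D x, [a, b, c].Nodup →
    Commute a b → Commute a c → Commute b c → a * b * c ≠ x
  four : ∀ x ∈ D, ∀ l : List G, l.Nodup → l.length = 4 → (∀ a ∈ l, a ∈ nb D x) →
    (∀ a ∈ l, ∀ b ∈ l, Commute a b) → l.prod ≠ x
  nbtrans : ∀ x ∈ D, ∀ a ∈ nb D x, ∀ b ∈ nb D x, ∃ g : G, Commute g x ∧ g * a * g⁻¹ = b
  common : ∀ x ∈ D, ∀ a ∈ nb D x, ∀ b ∈ nb D x,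
    ∃ c ∈ nb D x, c ≠ a ∧ c ≠ b ∧ Commute c a ∧ Commute c b
  line : ∀ x ∈ D, ∀ a ∈ nb D x, ∀ b ∈ nb D x, Commute a b → a ≠ b →
    ∃ u w s, Line (nb D x) x a b u w s
  com2_mod : ∀ x ∈ D, ∀ a ∈ nb D x, (com2 D x a).ncard % 8 = 4
  odd_nb : ∀ x ∈ D, Odd (nb D x).ncard
  self : ∀ x ∈ D, ∀ a ∈ nb D x, ∀ n : G, Commute n x → Commute n a →
    (∀ y ∈ com2 D x a, Commute n y) → n * n = 1

/-- A subgroup holding all products of two generators holds the perfect group they generate. -/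
theorem le_of_prod_mem {C Z : Subgroup G} {S : Set G} (hS : Subgroup.closure S = C)
    (hsq : ∀ s ∈ S, s * s = 1) (hperf : commutator ↥C = ⊤) (hZ : ∀ s ∈ S, ∀ t ∈ S, s * t ∈ Z) :
    C ≤ Z := by
  rcases Set.eq_empty_or_nonempty S with h | ⟨s₀, hs₀⟩
  · rw [← hS, h, Subgroup.closure_empty]; exact bot_le
  set E := Subgroup.closure {g | ∃ s ∈ S, ∃ t ∈ S, g = s * t} with hE
  have hEZ : E ≤ Z := (Subgroup.closure_le _).2 (by rintro _ ⟨s, hs, t, ht, rfl⟩; exact hZ s hs t ht)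
  have hinv : ∀ s ∈ S, s⁻¹ = s := fun s hs => inv_eq_of_mul_eq_one_right (hsq s hs)
  have hpair : ∀ s ∈ S, ∀ t ∈ S, s * t ∈ E := fun s hs t ht => Subgroup.subset_closure ⟨s, hs, t, ht, rfl⟩
  have hcl : ∀ x ∈ C, ∃ y ∈ E, x = y ∨ x = s₀ * y := by
    intro x hx
    have hstep : ∀ s ∈ S, ∀ x : G, (∃ y ∈ E, x = y ∨ x = s₀ * y) → ∃ y ∈ E, s * x = y ∨ s * x = s₀ * y := by
      rintro s hs x ⟨y, hy, rfl | rfl⟩
      · exact ⟨(s₀ * s) * x, mul_mem (hpair s₀ hs₀ s hs) hy,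
          Or.inr (by simp [mul_assoc, ← mul_assoc s₀ s₀, hsq s₀ hs₀])⟩
      · exact ⟨(s * s₀) * y, mul_mem (hpair s hs s₀ hs₀) hy, Or.inl (by group)⟩
    rw [← hS] at hx
    induction hx using Subgroup.closure_induction_left with
    | one => exact ⟨1, one_mem _, Or.inl rfl⟩
    | mul_left s hs x _ ih => exact hstep s hs x ih
    | inv_mul_cancel s hs x _ ih => rw [hinv s hs]; exact hstep s hs x ih
  have hkey : ∀ f ∈ E, s₀ * f * s₀ ∈ E := by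
    intro f hf
    induction hf using Subgroup.closure_induction with
    | one => rw [mul_one, hsq s₀ hs₀]; exact one_mem _
    | mem f hf =>
      obtain ⟨u, hu, v, hv, rfl⟩ := hf
      rw [show s₀ * (u * v) * s₀ = (s₀ * u) * (v * s₀) by group]
      exact mul_mem (hpair _ hs₀ u hu) (hpair v hv _ hs₀)
    | mul a b _ _ ha hb =>
      rw [show s₀ * (a * b) * s₀ = (s₀ * a * s₀) * (s₀ * b * s₀) by
        simp [mul_assoc, ← mul_assoc s₀ s₀, hsq s₀ hs₀]]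
      exact mul_mem ha hb
    | inv a _ ha =>
      rw [show s₀ * a⁻¹ * s₀ = (s₀ * a * s₀)⁻¹ by simp [mul_inv_rev, hinv s₀ hs₀, mul_assoc]]
      exact inv_mem ha
  have hcomm : ∀ a ∈ C, ∀ b ∈ C, a * b * a⁻¹ * b⁻¹ ∈ E := by
    intro a ha b hb
    obtain ⟨x, hx, rfl | rfl⟩ := hcl a ha <;> obtain ⟨y, hy, rfl | rfl⟩ := hcl b hb
    · exact mul_mem (mul_mem (mul_mem hx hy) (inv_mem hx)) (inv_mem hy)
    · rw [mul_inv_rev, hinv s₀ hs₀, show a * (s₀ * y) * a⁻¹ * (y⁻¹ * s₀) = a * (s₀ * (y * a⁻¹ * y⁻¹) * s₀) by group]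
      exact mul_mem hx (hkey _ (mul_mem (mul_mem hy (inv_mem hx)) (inv_mem hy)))
    · rw [mul_inv_rev, hinv s₀ hs₀, show s₀ * x * b * (x⁻¹ * s₀) * b⁻¹ = (s₀ * (x * b * x⁻¹) * s₀) * b⁻¹ by group]
      exact mul_mem (hkey _ (mul_mem (mul_mem hx hy) (inv_mem hx))) (inv_mem hy)
    · rw [mul_inv_rev, mul_inv_rev, hinv s₀ hs₀,
        show s₀ * x * (s₀ * y) * (x⁻¹ * s₀) * (y⁻¹ * s₀) = (s₀ * x * s₀) * y * x⁻¹ * (s₀ * y⁻¹ * s₀) by group]
      exact mul_mem (mul_mem (mul_mem (hkey x hx) hy) (inv_mem hx)) (hkey _ (inv_mem hy))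
  have hle : commutator ↥C ≤ E.subgroupOf C := by
    rw [commutator_def, Subgroup.commutator_le]
    rintro ⟨a, ha⟩ - ⟨b, hb⟩ -
    exact hcomm a ha b hb
  exact fun g hg => hEZ (hle (show (⟨g, hg⟩ : ↥C) ∈ commutator ↥C from hperf ▸ Subgroup.mem_top _))

end Cfsg.Agent.Lib.Fischer3T60.Recog
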