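import Cfsg.Agent.Lib.M22Struct66.Local
import Cfsg.Agent.Lib.M22Struct66.Order
import Cfsg.Agent.Lib.ThreeTransp.ProductsTypes

/-!
# The transvections of `PSU₆(2)` as an abstract set of 3-transpositions
-/

set_option autoImplicit false

namespace Cfsg.Agent.Lib.Fischer3T60.Recog

open Cfsg Cfsg.Agent.Lib.PSUAut Cfsg.Agent.Lib.ThreeTransp Cfsg.Agent.Lib.ThreeTransp.PSUSix
open Cfsg.Agent.Lib.M22Struct66

variable {F : Type} [Field F] [Fintype F]

local notation "V" => (Fin 6 → F)
local notation "B" => Cfsg.hermForm 6 F 2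
local notation "PU" => Cfsg.PSU 6 F 2

variable (hF : Fintype.card F = 4)
include hF

theorem points_sq_one {U : PU} (hU : U ∈ points F) : U * U = 1 := ThreeTransp.mul_self (points_set hF) hU

theorem closure_points : Subgroup.closure (points F) = ⊤ := by
  have hs : IsSimpleGroup PU := S0283.result (card' hF) 6 (by norm_num) (by norm_num)
  have hn : (Subgroup.closure (points F)).Normal := by
    refine ⟨fun n hn g => ?_⟩
    induction hn using Subgroup.closure_induction with
    | mem U hU => exact Subgroup.subset_closure (points_conj hF g U hU)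
    | one => simp [one_mem]
    | mul a b _ _ ha hb => rw [show g * (a * b) * g⁻¹ = (g * a * g⁻¹) * (g * b * g⁻¹) by group]; exact mul_mem ha hb
    | inv a _ ha => rw [show g * a⁻¹ * g⁻¹ = (g * a * g⁻¹)⁻¹ by group]; exact inv_mem ha
  refine hn.eq_bot_or_eq_top.resolve_left fun h => ?_
  obtain ⟨v, hv0, hv⟩ := exists_isotropic_vec (card' hF) (by norm_num : 3 ≤ 6)
  have hm : tv v ∈ Subgroup.closure (points F) := Subgroup.subset_closure ⟨v, ⟨hv0, hv⟩, rfl⟩
  rw [h, Subgroup.mem_bot] at hm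
  exact T_ne_one hF hv0 hv hm

theorem noProd_points {n : ℕ} (h1 : 1 ≤ n) (h4 : n ≤ 4) : Products.NoProd (points F) n := by
  rcases (show n ≤ 3 ∨ n = 4 by omega) with h | rfl
  · exact Products.noProd_le_three (points_set hF) (points_conj hF) (closure_points hF) (center_psu6 hF) h1 h
  · have hPre : Products.Pre (points F) := ⟨fun _ hU => points_sq_one hF hU, (points_set hF).2,
      points_conj hF, closure_points hF⟩
    have := (Products.good_psu hF (MulEquiv.refl _) hPre).2
    rwa [Products.core_eq (points_set hF)] at this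

theorem points_trans {U W : PU} (hU : U ∈ points F) (hW : W ∈ points F) : ∃ g : PU, g * U * g⁻¹ = W := by
  obtain ⟨u, hu, rfl⟩ := hU
  obtain ⟨w, hw, rfl⟩ := hW
  obtain ⟨s, hs⟩ := exists_act_eq (card' hF) (by norm_num) hu.1 hu.2 hw.1 hw.2
  exact ⟨proj s, by rw [tv, conj_T hF s hu.2, hs]; rfl⟩

/-- Five transvections of a line, with the line determined by any two of them. -/
theorem points_line {a b : PU} (ha : a ∈ points F) (hb : b ∈ points F) (hab : Commute a b) (hne : a ≠ b) :
    ∃ u w s, [a, b, u, w, s].Nodup ∧ (∀ v ∈ [a, b, u, w, s], v ∈ points F) ∧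
      (∀ v ∈ [a, b, u, w, s], ∀ v' ∈ [a, b, u, w, s], Commute v v') ∧ [a, b, u, w, s].prod = 1 ∧
      (∀ p ∈ [a, b, u, w, s], ∀ q ∈ [a, b, u, w, s], p ≠ q → ∀ z ∈ points F, Commute z p → Commute z q →
        ∀ v ∈ [a, b, u, w, s], Commute z v) ∧
      ∀ v ∈ points F, (∀ e ∈ points F, Commute e a → Commute e b → Commute e v) → v ∈ [a, b, u, w, s] := by
  classical
  obtain ⟨u, w, s, hnd, hmem, hcomm, hprod, hmax⟩ :=
    PSUSix.exists_five hF (points_set hF) (points_conj hF) ha hb hab hne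
  refine ⟨u, w, s, hnd, hmem, hcomm, hprod, fun p hp q hq hpq z hz hzp hzq v hv => ?_, hmax⟩
  rcases Products.noncommuting_count (points_set hF) (points_conj hF) hmem hcomm hnd hz
    (hprod ▸ Commute.one_right z) with h | h
  · exact (h v hv).symm
  · exfalso
    have hsub : {x | x ∈ [a, b, u, w, s] ∧ ¬ Commute x z} ⊆
        ↑(([a, b, u, w, s].toFinset.erase p).erase q) := by
      intro x hx
      simp only [Finset.coe_erase, Set.mem_sdiff, Set.mem_singleton_iff, List.coe_toFinset, Set.mem_ofPred_eq]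
      exact ⟨⟨hx.1, fun e => hx.2 (e ▸ hzp.symm)⟩, fun e => hx.2 (e ▸ hzq.symm)⟩
    have h1 := Set.ncard_le_ncard hsub (Finset.finite_toSet _)
    rw [Set.ncard_coe_finset, Finset.card_erase_of_mem, Finset.card_erase_of_mem (List.mem_toFinset.2 hp),
      List.toFinset_card_of_nodup hnd] at h1
    · simp only [List.length_cons, List.length_nil] at h1; omega
    · exact Finset.mem_erase.2 ⟨hpq.symm, List.mem_toFinset.2 hq⟩

/-- Two transvections commute with a third one. -/
theorem points_common {a b : PU} (ha : a ∈ points F) (hb : b ∈ points F) :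
    ∃ c ∈ points F, c ≠ a ∧ c ≠ b ∧ Commute c a ∧ Commute c b := by
  have h := herm (n := 6) (card' hF)
  by_cases hab : Commute a b
  · obtain ⟨b', hb', hab', hne'⟩ : ∃ b' ∈ points F, Commute a b' ∧ a ≠ b' := by
      obtain ⟨p, hp, rfl⟩ := ha
      obtain ⟨e, f, hfr, he⟩ := exists_frame_one hF hp.1 hp.2
      refine ⟨tv (e 1), ⟨e 1, ⟨hfr.ne_zero_left hF 1, hfr.ee 1 1⟩, rfl⟩, ?_, fun hh => ?_⟩
      · exact (commute_T hF hp.1 hp.2 (hfr.ne_zero_left hF 1) (hfr.ee 1 1)).2 (by rw [← he]; exact hfr.ee 1 0)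
      · obtain ⟨t, ht⟩ := T_line hF (hfr.ne_zero_left hF 1) (hfr.ee 1 1) hp.2 hh.symm
        have := congrArg (fun x => B x (f 0)) ht
        simp [← he, h.smul_left, hfr.ef] at this
        rw [← this, zero_smul] at ht
        exact hfr.ne_zero_left hF 1 ht
    by_cases hne : a = b
    · subst hne
      exact ⟨b', hb', hne'.symm, hne'.symm, hab'.symm, hab'.symm⟩
    · obtain ⟨u, w, s, hnd, hmem, hcomm, -⟩ := points_line hF ha hb hab hne
      simp only [List.nodup_cons, List.mem_cons, List.not_mem_nil, or_false, not_or] at hnd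
      exact ⟨u, hmem u (by simp), Ne.symm hnd.1.2.1, Ne.symm hnd.2.1.1, hcomm u (by simp) a (by simp),
        hcomm u (by simp) b (by simp)⟩
  · obtain ⟨p, hp, rfl⟩ := ha
    obtain ⟨q, hq, rfl⟩ := hb
    have hpq : B p q ≠ 0 := fun e => hab ((commute_T hF hp.1 hp.2 hq.1 hq.2).2 (orth_symm h e))
    have hhyp : IsHyp B p (B p q • q) := by
      refine ⟨hp.2, ?_, ?_⟩
      · rw [h.smul_left, h.smul_right, hq.2, mul_zero, mul_zero]
      · rw [h.smul_right, Forms.qPowHom_apply, ← pow_succ, pow_three hF hpq]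
    obtain ⟨e, f, hfr, he, hf⟩ := exists_frame_two hF hhyp
    have h1 : Commute (tv (e 1)) (tv p) :=
      ((commute_T hF hp.1 hp.2 (hfr.ne_zero_left hF 1) (hfr.ee 1 1)).2 (by rw [← he]; exact hfr.ee 1 0)).symm
    have h2 : Commute (tv (e 1)) (tv q) := by
      refine ((commute_T hF hq.1 hq.2 (hfr.ne_zero_left hF 1) (hfr.ee 1 1)).2 ?_).symm
      have := hfr.ef 1 0
      rw [hf, h.smul_right] at this
      simpa [hpq] using this
    refine ⟨tv (e 1), ⟨e 1, ⟨hfr.ne_zero_left hF 1, hfr.ee 1 1⟩, rfl⟩, fun hh => hab (hh ▸ h2), fun hh => hab ?_, h1, h2⟩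
    exact (hh ▸ h1).symm

/-- Transvections counted through their centres. -/
theorem count_points (P : V → Prop) (hsc : ∀ a : F, a ≠ 0 → ∀ v, P (a • v) ↔ P v) (h0 : P 0) :
    3 * {U : PU | ∃ v, IsPt v ∧ P v ∧ U = tv v}.ncard + 1 = {v : V | B v v = 0 ∧ P v}.ncard := by
  classical
  have h := herm (n := 6) (card' hF)
  set S : Finset V := Finset.univ.filter fun v => IsPt v ∧ P v
  have h1 : {v : V | B v v = 0 ∧ P v}.ncard = S.card + 1 := by
    have e : {v : V | B v v = 0 ∧ P v} = insert 0 (↑S : Set V) := by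
      ext v
      simp only [Set.mem_ofPred_eq, Finset.coe_filter, Set.mem_insert_iff, S, Finset.mem_univ, true_and]
      constructor
      · intro hv
        by_cases hv0 : v = 0
        · exact Or.inl hv0
        · exact Or.inr ⟨⟨hv0, hv.1⟩, hv.2⟩
      · rintro (rfl | hv)
        · exact ⟨h.zero_left 0, h0⟩
        · exact ⟨hv.1.2, hv.2⟩
    rw [e, Set.ncard_insert_of_notMem, Set.ncard_coe_finset]
    · exact fun hm => (Finset.mem_filter.1 (Finset.mem_coe.1 hm)).2.1.1 rfl
  have h2 : {U : PU | ∃ v, IsPt v ∧ P v ∧ U = tv v} = ↑(S.image tv) := by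
    ext U; simp [S, eq_comm, and_assoc]
  rw [h1, h2, Set.ncard_coe_finset, Finset.card_eq_sum_card_image tv S, Finset.sum_const_nat (m := 3), mul_comm]
  intro U hU
  obtain ⟨v, hv, rfl⟩ := Finset.mem_image.1 hU
  simp only [S, Finset.mem_filter, Finset.mem_univ, true_and] at hv
  have e : (S.filter fun w => tv w = tv v) = (Finset.univ.filter fun a : F => a ≠ 0).image (fun a => a • v) := by
    ext w
    simp only [S, Finset.mem_filter, Finset.mem_univ, true_and, Finset.mem_image]
    constructor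
    · rintro ⟨⟨hw, -⟩, he⟩
      obtain ⟨a, ha⟩ := T_line hF hw.1 hw.2 hv.1.2 he
      exact ⟨a, fun e0 => hw.1 (by rw [ha, e0, zero_smul]), ha.symm⟩
    · rintro ⟨a, ha, rfl⟩
      refine ⟨⟨⟨smul_ne_zero ha hv.1.1, ?_⟩, (hsc a ha v).2 hv.2⟩, T_smul hF hv.1.2 ha⟩
      rw [h.smul_left, h.smul_right, hv.1.2, mul_zero, mul_zero]
  rw [e, Finset.card_image_of_injective _ (smul_left_injective F hv.1.1), Finset.filter_ne' Finset.univ 0,
    Finset.card_erase_of_mem (Finset.mem_univ _), Finset.card_univ, hF]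

theorem ncard_points : (points F).ncard = 693 := by
  obtain ⟨e, f, hfr⟩ := exists_frame_any hF
  have h := count_points hF (fun _ => True) (fun _ _ _ => Iff.rfl) trivial
  simp only [and_true, count_all hF hfr, true_and] at h
  have e : points F = {U : PU | ∃ v, IsPt v ∧ U = tv v} := rfl
  rw [e]; omega

theorem ncard_points_commute {a : PU} (ha : a ∈ points F) :
    {U : PU | U ∈ points F ∧ U ≠ a ∧ Commute U a}.ncard = 180 := by
  obtain ⟨p, hp, rfl⟩ := ha
  obtain ⟨e, f, hfr, he⟩ := exists_frame_one hF hp.1 hp.2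
  have hh := herm (n := 6) (card' hF)
  have h := count_points hF (fun v => B v p = 0) (fun a ha v => by simp [hh.smul_left, ha]) (hh.zero_left p)
  rw [← he, count_perp hF hfr, he] at h
  have e1 : {U : PU | U ∈ points F ∧ U ≠ tv p ∧ Commute U (tv p)} =
      {U : PU | ∃ v, IsPt v ∧ B v p = 0 ∧ U = tv v} \ {tv p} := by
    ext U
    constructor
    · rintro ⟨⟨v, hv, rfl⟩, hne, hc⟩
      exact ⟨⟨v, hv, (commute_T hF hp.1 hp.2 hv.1 hv.2).1 hc.symm, rfl⟩, hne⟩
    · rintro ⟨⟨v, hv, hb, rfl⟩, hne⟩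
      exact ⟨⟨v, hv, rfl⟩, hne, ((commute_T hF hp.1 hp.2 hv.1 hv.2).2 hb).symm⟩
  rw [e1, Set.ncard_sdiff_singleton_of_mem
    (show tv p ∈ {U : PU | ∃ v, IsPt v ∧ B v p = 0 ∧ U = tv v} from ⟨p, hp, hp.2, rfl⟩)]
  omega

end Cfsg.Agent.Lib.Fischer3T60.Recog
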