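import Cfsg.Agent.Lib.Fischer3T52.Radical.Frame
import Cfsg.Agent.Lib.Fischer3T60.Fusion
import Cfsg.Agent.Lib.Fischer3T60.Recog.Model

/-!
# The conjugates of `d` in its centraliser lift the transvections, one each
-/

set_option autoImplicit false
set_option linter.unusedSectionVars false

namespace Cfsg.Agent.Lib.Fischer3T60.Recog

open Cfsg Cfsg.Agent.Lib.PSUAut Cfsg.Agent.Lib.ThreeTransp.PSUSix Cfsg.Agent.Lib.M22Struct66
open Cfsg.Agent.Lib.Fischer3T52.Radical

variable {F : Type} [Field F] [Fintype F]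

local notation "PU" => Cfsg.PSU 6 F 2
local notation "V" => (Fin 6 → F)

variable {G : Type*} [Group G] [Finite G] {d : G} {π : ↥(Subgroup.centralizer ({d} : Set G)) →* Cfsg.PSU 6 F 2}

/-- Few elements of the preimage of a radical lie over a transvection. -/
theorem ncard_point_lifts_le (hF : Fintype.card F = 4) {e f : Fin 3 → V} (hfr : IsFrame e f) (hS : Setup π) :
    {a : G | ∃ c : ↥(Subgroup.centralizer ({d} : Set G)), (c : G) = a ∧ π c ∈ rad e ∧ π c ∈ points F}.ncard ≤ 128 := by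
  classical
  choose L hL using hS.cover.surj
  let g : (Fin 3 → F) × Bool → G := fun x =>
    if x.2 then (L (tv (∑ k, x.1 k • e k)) : G) * d else (L (tv (∑ k, x.1 k • e k)) : G)
  have hsub : {a : G | ∃ c : ↥(Subgroup.centralizer ({d} : Set G)), (c : G) = a ∧ π c ∈ rad e ∧ π c ∈ points F} ⊆
      Set.range g := by
    rintro _ ⟨c, rfl, hr, v, hv, he⟩
    rw [he] at hr
    have hs := eq_sum hF hfr (inM_of_mem hF hfr hv hr)
    rcases hS.lift_cases (c := c) (c' := L (tv v)) (he.trans (hL _).symm) with h | h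
    · exact ⟨(fun k => Cfsg.hermForm 6 F 2 v (f k), false), by simp [g, ← hs, h]⟩
    · exact ⟨(fun k => Cfsg.hermForm 6 F 2 v (f k), true), by simp [g, ← hs, h]⟩
  refine (Set.ncard_le_ncard hsub (Set.toFinite _)).trans ?_
  rw [← Set.image_univ]
  refine (Set.ncard_image_le Set.finite_univ).trans ?_
  simp [Set.ncard_univ, Nat.card_eq_fintype_card, hF]

variable (hF : Fintype.card F = 4) (hS : Setup π)
  (hperf : commutator ↥(Subgroup.centralizer ({d} : Set G)) = ⊤)
  (hfused : ∃ g : G, g * d * g⁻¹ ∈ Subgroup.centralizer ({d} : Set G) ∧ g * d * g⁻¹ ≠ d)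
include hF hS hperf hfused

theorem point_class :
    (∀ c : ↥(Subgroup.centralizer ({d} : Set G)), IsConj d (c : G) → (c : G) ≠ d → π c ∈ points F) ∧
    (∀ U ∈ points F, ∃ c : ↥(Subgroup.centralizer ({d} : Set G)), π c = U ∧ IsConj d (c : G)) ∧
    ∀ c c' : ↥(Subgroup.centralizer ({d} : Set G)), IsConj d (c : G) → IsConj d (c' : G) → π c = π c' → c = c' := by
  obtain ⟨e, f, hfr⟩ := exists_frame_any hF
  have hFr := frame_of_setup hF hfr hS hperf hfused
  obtain ⟨cls, hR⟩ := hFr.classes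
  have h22 := hFr.ncard_eq
  rw [hFr.ncard_omega hR] at h22
  obtain ⟨hc0, -, hor⟩ := hFr.class_count hR 0
  have hc1 := (hFr.class_count hR 1).1
  have hc2 := (hFr.class_count hR 2).1
  simp only [ClassCount, Matrix.cons_val_zero, Matrix.cons_val_one, Matrix.cons_val_two,
    Matrix.head_cons, Matrix.tail_cons] at hc0 hc1 hc2
  have hn0 : (cls 0 ∩ {x | IsConj d x}).ncard = 21 := by omega
  have hn1 : (cls 1 ∩ {x | IsConj d x}).ncard = 0 := by omega
  have hn2 : (cls 2 ∩ {x | IsConj d x}).ncard = 0 := by omega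
  have hmemA : ∀ c : ↥(Subgroup.centralizer ({d} : Set G)), (c : G) ∈ pre π (rad e) ↔ π c ∈ rad e :=
    fun c => coe_mem_pre
  have hconjC : ∀ k c : ↥(Subgroup.centralizer ({d} : Set G)), IsConj d (c : G) →
      IsConj d ((k * c * k⁻¹ : ↥(Subgroup.centralizer ({d} : Set G))) : G) := fun k c h =>
    h.trans (isConj_iff.2 ⟨(k : G), rfl⟩)
  have htoA : ∀ c : ↥(Subgroup.centralizer ({d} : Set G)), π c * π c = 1 →
      ∃ k : ↥(Subgroup.centralizer ({d} : Set G)), π (k * c * k⁻¹) ∈ rad e := by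
    intro c hc
    obtain ⟨h, hh⟩ := exists_conj_mem hF hfr (x := π c) hc
    obtain ⟨k, rfl⟩ := hS.cover.surj h
    exact ⟨k, by rw [map_mul, map_mul, map_inv]; exact hh⟩
  have hpt : ∀ i, ∀ a ∈ cls i, (∃ c : ↥(Subgroup.centralizer ({d} : Set G)), (c : G) = a ∧ π c ∈ points F) →
      ∀ b ∈ cls i, ∃ c : ↥(Subgroup.centralizer ({d} : Set G)),
        (c : G) = b ∧ π c ∈ rad e ∧ π c ∈ points F := by
    rintro i _ ha ⟨c, rfl, hc⟩ b hb
    obtain ⟨c', hc', rfl⟩ := hR.subset i hb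
    refine ⟨c', rfl, hc', ?_⟩
    obtain ⟨n, -, hnd, hn⟩ := hR.trans i _ ha _ hb
    set k : ↥(Subgroup.centralizer ({d} : Set G)) := ⟨n, Subgroup.mem_centralizer_singleton_iff.2 hnd⟩
    have key : π (k * c * k⁻¹) = π c' := by
      rcases hn with hn | hn
      · exact congrArg π (Subtype.ext hn)
      · rw [show k * c * k⁻¹ = c' * zel d from Subtype.ext hn, map_mul, hS.cover.map_z, mul_one]
    rw [← key, map_mul, map_mul, map_inv]
    exact points_conj hF _ _ hc
  have hzero : ∀ i, ∀ a ∈ cls i, (∃ c : ↥(Subgroup.centralizer ({d} : Set G)), (c : G) = a ∧ π c ∈ points F) →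
      i = 0 := by
    intro i a ha hc
    have h1 := Set.ncard_le_ncard (hpt i a ha hc) (Set.toFinite _)
    have h2 := ncard_point_lifts_le hF hfr hS
    rw [hR.card i] at h1
    fin_cases i
    · rfl
    all_goals (have h3 := h1.trans h2; simp at h3)
  have hne : ∀ c : ↥(Subgroup.centralizer ({d} : Set G)), π c ∈ points F → (c : G) ≠ 1 ∧ (c : G) ≠ d := by
    rintro c ⟨v, hv, he⟩
    constructor <;> intro h
    · obtain rfl : c = 1 := Subtype.ext h
      exact T_ne_one hF hv.1 hv.2 (he.symm.trans (map_one π))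
    · obtain rfl : c = zel d := Subtype.ext h
      exact T_ne_one hF hv.1 hv.2 (he.symm.trans hS.cover.map_z)
  -- lifts of the first class lie over transvections
  obtain ⟨a₀, ha₀⟩ := hS.cover.surj (tv (e 0))
  have hp₀ : π a₀ ∈ points F := ha₀ ▸ ⟨e 0, ⟨hfr.ne_zero_left hF 0, hfr.ee 0 0⟩, rfl⟩
  have hA₀ : (a₀ : G) ∈ pre π (rad e) :=
    (hmemA a₀).2 (ha₀ ▸ mem_rad_point hF hfr (inM_left hF hfr 0))
  obtain ⟨i₀, hi₀⟩ := hR.cover _ hA₀ (hne a₀ hp₀).1 (hne a₀ hp₀).2
  obtain rfl := hzero i₀ _ hi₀ ⟨a₀, rfl, hp₀⟩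
  have hcls0 := hpt 0 _ hi₀ ⟨a₀, rfl, hp₀⟩
  have hinA : ∀ x ∈ pre π (rad e), IsConj d x → x ≠ d → x ∈ cls 0 := by
    intro x hx hc hxd
    obtain ⟨i, hi⟩ := hR.cover x hx (fun h => hFr.not_isConj_one (h ▸ hc)) hxd
    fin_cases i
    · exact hi
    · exact absurd ((Set.ncard_eq_zero (Set.toFinite _)).1 hn1) (Set.Nonempty.ne_empty ⟨x, hi, hc⟩)
    · exact absurd ((Set.ncard_eq_zero (Set.toFinite _)).1 hn2) (Set.Nonempty.ne_empty ⟨x, hi, hc⟩)
  have hinvol : ∀ c : ↥(Subgroup.centralizer ({d} : Set G)), IsConj d (c : G) → π c * π c = 1 := by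
    intro c hc
    obtain ⟨g, hg⟩ := isConj_iff.1 hc
    rw [← map_mul, show c * c = 1 from Subtype.ext (show (c : G) * c = 1 by
      rw [← hg, show g * d * g⁻¹ * (g * d * g⁻¹) = g * (d * d) * g⁻¹ by group, hS.sq, mul_one, mul_inv_cancel]),
      map_one]
  have hfixd : ∀ k c : ↥(Subgroup.centralizer ({d} : Set G)),
      ((k * c * k⁻¹ : ↥(Subgroup.centralizer ({d} : Set G))) : G) = d → (c : G) = d := fun k c h => by
    have hk : (k : G) * d = d * k := Subgroup.mem_centralizer_singleton_iff.1 k.2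
    rw [show (c : G) = (k : G)⁻¹ * ((k : G) * c * (k : G)⁻¹) * k by group,
      show (k : G) * c * (k : G)⁻¹ = d from h, mul_assoc, ← hk, inv_mul_cancel_left]
  refine ⟨fun c hc hcd => ?_, fun U hU => ?_, fun c c' hc hc' he => ?_⟩
  · obtain ⟨k, hk⟩ := htoA c (hinvol c hc)
    obtain ⟨c₁, hc₁, -, hP⟩ := hcls0 _ (hinA _ ((hmemA _).2 hk) (hconjC k c hc) fun h => hcd (hfixd k c h))
    rw [Subtype.ext hc₁, map_mul, map_mul, map_inv] at hP
    have := points_conj hF (π k)⁻¹ _ hP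
    simpa [mul_assoc] using this
  · obtain ⟨c, rfl⟩ := hS.cover.surj U
    obtain ⟨k, hk⟩ := htoA c (points_sq_one hF hU)
    have hPk : π (k * c * k⁻¹) ∈ points F := by
      rw [map_mul, map_mul, map_inv]; exact points_conj hF _ _ hU
    obtain ⟨i, hi⟩ := hR.cover _ ((hmemA _).2 hk) (hne _ hPk).1 (hne _ hPk).2
    obtain rfl := hzero i _ hi ⟨_, rfl, hPk⟩
    rcases hor (by omega) _ hi with h | h
    · exact ⟨c, rfl, h.trans (isConj_iff.2 ⟨(k : G)⁻¹, by simp [mul_assoc]⟩)⟩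
    · refine ⟨c * zel d, by rw [map_mul, hS.cover.map_z, mul_one], h.trans (isConj_iff.2 ⟨(k : G)⁻¹, ?_⟩)⟩
      have hk' : (k : G) * d = d * k := Subgroup.mem_centralizer_singleton_iff.1 k.2
      show (k : G)⁻¹ * ((k : G) * c * (k : G)⁻¹ * d) * (k : G)⁻¹⁻¹ = (c : G) * d
      rw [inv_inv, show (k : G)⁻¹ * ((k : G) * c * (k : G)⁻¹ * d) * (k : G) = (c : G) * ((k : G)⁻¹ * (d * k)) by group,
        ← hk', inv_mul_cancel_left]
  · rcases hS.lift_cases he with h | h
    · exact Subtype.ext h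
    exfalso
    by_cases hcd : (c' : G) = d
    · rw [hcd, hS.sq] at h
      exact hFr.not_isConj_one (h ▸ hc)
    obtain ⟨k, hk⟩ := htoA c' (hinvol c' hc')
    set a := k * c' * k⁻¹ with ha
    have hac : IsConj d (a : G) := hconjC k c' hc'
    have ha0 := hinA _ ((hmemA a).2 hk) hac fun h => hcd (hfixd k c' h)
    have had : IsConj d ((a : G) * d) := by
      have : (a : G) * d = ((k * c * k⁻¹ : ↥(Subgroup.centralizer ({d} : Set G))) : G) := by
        have hk' : (k : G) * d = d * k := Subgroup.mem_centralizer_singleton_iff.1 k.2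
        show (k : G) * c' * (k : G)⁻¹ * d = (k : G) * c * (k : G)⁻¹
        rw [h, mul_assoc _ _ d, show (k : G)⁻¹ * d = d * (k : G)⁻¹ from (Commute.inv_left hk').eq]
        group
      rw [this]
      exact hconjC k c hc
    set P := cls 0 ∩ {x | IsConj d x}
    have hun : cls 0 = P ∪ (· * d) '' P := by
      ext b
      constructor
      · intro hb
        rcases hor (by omega) b hb with h | h
        · exact Or.inl ⟨hb, h⟩
        · exact Or.inr ⟨b * d, ⟨hR.mul_d 0 b hb, h⟩, by simp [mul_assoc, hS.sq]⟩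
      · rintro (⟨hb, -⟩ | ⟨x, ⟨hx, -⟩, rfl⟩)
        · exact hb
        · exact hR.mul_d 0 x hx
    have h1 := Set.ncard_union_add_ncard_inter P ((· * d) '' P) (Set.toFinite _) (Set.toFinite _)
    rw [← hun, hR.card 0, Set.ncard_image_of_injective _ (mul_left_injective d), hn0] at h1
    simp only [Matrix.cons_val_zero] at h1
    have hmem : (a : G) ∈ P ∩ (· * d) '' P :=
      ⟨⟨ha0, hac⟩, (a : G) * d, ⟨hR.mul_d 0 _ ha0, had⟩, by simp [mul_assoc, hS.sq]⟩
    have := (Set.ncard_pos (Set.toFinite (P ∩ (· * d) '' P))).2 ⟨_, hmem⟩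
    omega

end Cfsg.Agent.Lib.Fischer3T60.Recog
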