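import Cfsg.Agent.Lib.Fischer3T60.Recog.Hyp
import Cfsg.Agent.Lib.Fischer3T60.Recog.Points

/-!
# The local hypotheses hold for an involution whose centraliser covers `PSU₆(2)`
-/

set_option autoImplicit false
set_option linter.unusedSectionVars false

namespace Cfsg.Agent.Lib.Fischer3T60.Recog

open Cfsg Cfsg.Agent.Lib.PSUAut Cfsg.Agent.Lib.ThreeTransp Cfsg.Agent.Lib.ThreeTransp.PSUSix
open Cfsg.Agent.Lib.M22Struct66 Cfsg.Agent.Lib.Fischer3T52.Radical

variable {F : Type} [Field F] [Fintype F]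

local notation "PU" => Cfsg.PSU 6 F 2

variable {G : Type*} [Group G] [Finite G]

/-- The covering data at one member. -/
structure Cov (D : Set G) (x : G) (π : ↥(Subgroup.centralizer ({x} : Set G)) →* Cfsg.PSU 6 F 2) : Prop where
  cls : D = conjugatesOf x
  setup : Setup π
  perfect : commutator ↥(Subgroup.centralizer ({x} : Set G)) = ⊤
  fused : ∃ g : G, g * x * g⁻¹ ∈ Subgroup.centralizer ({x} : Set G) ∧ g * x * g⁻¹ ≠ x

/-- The covering data move along conjugation. -/
theorem exists_cov_conj {d : G} {π : ↥(Subgroup.centralizer ({d} : Set G)) →* Cfsg.PSU 6 F 2}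
    (hC : Cov (conjugatesOf d) d π) (g : G) :
    ∃ π' : ↥(Subgroup.centralizer ({g * d * g⁻¹} : Set G)) →* Cfsg.PSU 6 F 2,
      Cov (conjugatesOf d) (g * d * g⁻¹) π' := by
  set x := g * d * g⁻¹ with hx
  have hfw : ∀ c : G, Commute c d → Commute (g * c * g⁻¹) x := fun c h => (commute_conj_iff g).2 h
  have hbw : ∀ c : G, Commute c x → Commute (g⁻¹ * c * g) d := fun c h => by
    have := (commute_conj_iff g⁻¹).2 h
    rwa [inv_inv, hx, show g⁻¹ * (g * d * g⁻¹) * g = d by group] at this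
  let E : ↥(Subgroup.centralizer ({x} : Set G)) ≃* ↥(Subgroup.centralizer ({d} : Set G)) :=
    { toFun := fun c => ⟨g⁻¹ * c * g, Subgroup.mem_centralizer_singleton_iff.2
        (hbw c (Subgroup.mem_centralizer_singleton_iff.1 c.2)).eq⟩
      invFun := fun c => ⟨g * c * g⁻¹, Subgroup.mem_centralizer_singleton_iff.2
        (hfw c (Subgroup.mem_centralizer_singleton_iff.1 c.2)).eq⟩
      left_inv := fun c => Subtype.ext (by simp [mul_assoc])
      right_inv := fun c => Subtype.ext (by simp [mul_assoc])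
      map_mul' := fun a b => Subtype.ext (by simp [mul_assoc]) }
  have hEz : E (zel x) = zel d := Subtype.ext (show g⁻¹ * x * g = d by rw [hx]; group)
  have hS := hC.setup
  refine ⟨π.comp E.toMonoidHom, ?_, ⟨?_, ?_, ⟨?_, ?_, ?_, ?_, ?_⟩⟩, ?_, ?_⟩
  · ext y
    exact ⟨fun h => (isConj_iff.2 ⟨g, rfl⟩ : IsConj d x).symm.trans h,
      fun h => (isConj_iff.2 ⟨g, rfl⟩ : IsConj d x).trans h⟩
  · rw [hx, show g * d * g⁻¹ * (g * d * g⁻¹) = g * (d * d) * g⁻¹ by group, hS.sq, mul_one, mul_inv_cancel]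
  · intro h; exact hS.ne (conj_eq_one_iff.1 h)
  · exact hS.cover.surj.comp E.surjective
  · intro c hc
    rcases hS.cover.ker (E c) hc with h | h
    · exact Or.inl (E.injective (h.trans (map_one E).symm))
    · exact Or.inr (E.injective (h.trans hEz.symm))
  · exact fun c => Subtype.ext (Subgroup.mem_centralizer_singleton_iff.1 c.2)
  · exact Subtype.ext (by
      show x * x = 1
      rw [hx, show g * d * g⁻¹ * (g * d * g⁻¹) = g * (d * d) * g⁻¹ by group, hS.sq, mul_one, mul_inv_cancel])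
  · show π (E (zel x)) = 1
    rw [hEz]; exact hS.cover.map_z
  · have h := Subgroup.map_top_of_surjective E.symm.toMonoidHom E.symm.surjective
    conv_lhs => rw [commutator_def, ← h, ← Subgroup.map_commutator, ← commutator_def, hC.perfect, h]
  · obtain ⟨a, ha, hne⟩ := hC.fused
    refine ⟨g * a * g⁻¹, ?_, fun h => hne ?_⟩
    · rw [hx, show g * a * g⁻¹ * (g * d * g⁻¹) * (g * a * g⁻¹)⁻¹ = g * (a * d * a⁻¹) * g⁻¹ by group]
      exact Subgroup.mem_centralizer_singleton_iff.2 (hfw _ (Subgroup.mem_centralizer_singleton_iff.1 ha)).eq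
    · rw [hx, show g * a * g⁻¹ * (g * d * g⁻¹) * (g * a * g⁻¹)⁻¹ = g * (a * d * a⁻¹) * g⁻¹ by group] at h
      exact mul_left_cancel (mul_right_cancel h)

variable (hF : Fintype.card F = 4) {D : Set G} {x : G}
  {π : ↥(Subgroup.centralizer ({x} : Set G)) →* Cfsg.PSU 6 F 2} (hC : Cov D x π)

namespace Cov

include hF hC

/-- An element of the centraliser as a member of it. -/
theorem mem_nb_iff {c : ↥(Subgroup.centralizer ({x} : Set G))} :
    (c : G) ∈ nb D x ↔ IsConj x (c : G) ∧ (c : G) ≠ x := by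
  have h : Commute x (c : G) := (Subgroup.mem_centralizer_singleton_iff.1 c.2).symm
  rw [hC.cls]
  exact ⟨fun h' => ⟨h'.1, h'.2.1⟩, fun h' => ⟨h'.1, h'.2, h⟩⟩

omit hF hC in
/-- A neighbour as an element of the centraliser. -/
theorem exists_el {y : G} (hy : y ∈ nb D x) :
    ∃ c : ↥(Subgroup.centralizer ({x} : Set G)), (c : G) = y :=
  ⟨⟨y, Subgroup.mem_centralizer_singleton_iff.2 hy.2.2.symm.eq⟩, rfl⟩

theorem map_nb {c : ↥(Subgroup.centralizer ({x} : Set G))} (hc : (c : G) ∈ nb D x) : π c ∈ points F :=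
  have h := (hC.mem_nb_iff hF).1 hc
  (point_class hF hC.setup hC.perfect hC.fused).1 c h.1 h.2

theorem exists_lift {U : PU} (hU : U ∈ points F) :
    ∃ c : ↥(Subgroup.centralizer ({x} : Set G)), π c = U ∧ (c : G) ∈ nb D x := by
  obtain ⟨c, hc, hconj⟩ := (point_class hF hC.setup hC.perfect hC.fused).2.1 U hU
  refine ⟨c, hc, (hC.mem_nb_iff hF).2 ⟨hconj, fun h => ?_⟩⟩
  obtain rfl : c = zel x := Subtype.ext h
  rw [hC.setup.cover.map_z] at hc
  exact ThreeTransp.ne_one (points_set hF) hU hc.symm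

theorem eq_of_map {c c' : ↥(Subgroup.centralizer ({x} : Set G))} (hc : (c : G) ∈ nb D x)
    (hc' : (c' : G) ∈ nb D x) (h : π c = π c') : c = c' :=
  (point_class hF hC.setup hC.perfect hC.fused).2.2 c c' ((hC.mem_nb_iff hF).1 hc).1
    ((hC.mem_nb_iff hF).1 hc').1 h

theorem commute_map_iff {c c' : ↥(Subgroup.centralizer ({x} : Set G))} (hc : (c : G) ∈ nb D x)
    (hc' : (c' : G) ∈ nb D x) : Commute (π c) (π c') ↔ Commute (c : G) (c' : G) :=
  ⟨fun h => congrArg Subtype.val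
      (Fischer3T52.points_comm' hF hC.setup.cover (hC.map_nb hF hc) (hC.map_nb hF hc') h c c' rfl rfl).eq,
    fun h => (show Commute c c' from Subtype.ext h.eq).map π⟩

theorem nb_sq {y : G} (hy : y ∈ nb D x) : y * y = 1 ∧ y ≠ 1 := by
  have h := hy.1
  rw [hC.cls] at h
  obtain ⟨g, rfl⟩ := isConj_iff.1 (show IsConj x y from h)
  exact ⟨by rw [show g * x * g⁻¹ * (g * x * g⁻¹) = g * (x * x) * g⁻¹ by group, hC.setup.sq, mul_one, mul_inv_cancel],
    fun e => hC.setup.ne (conj_eq_one_iff.1 e)⟩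

theorem map_eq_one {c : ↥(Subgroup.centralizer ({x} : Set G))} (h : π c = 1) : (c : G) = 1 ∨ (c : G) = x := by
  rcases hC.setup.cover.ker c h with rfl | rfl
  exacts [Or.inl rfl, Or.inr rfl]

theorem map_of_eq {c : ↥(Subgroup.centralizer ({x} : Set G))} (h : (c : G) = x) : π c = 1 := by
  obtain rfl : c = zel x := Subtype.ext h
  exact hC.setup.cover.map_z

theorem nbset : IsThreeTranspositionSet (nb D x) := by
  refine ⟨fun y hy => orderOf_eq_prime (by rw [pow_two]; exact (hC.nb_sq hF hy).1) (hC.nb_sq hF hy).2,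
    fun a ha b hb => ?_⟩
  by_cases hab : Commute a b
  · left
    rw [hab.mul_pow, pow_two, pow_two, (hC.nb_sq hF ha).1, (hC.nb_sq hF hb).1, one_mul]
  right
  obtain ⟨ca, rfl⟩ := exists_el ha
  obtain ⟨cb, rfl⟩ := exists_el hb
  have hai := inv_eq_of_mul_eq_one_right (hC.nb_sq hF ha).1
  have hbi := inv_eq_of_mul_eq_one_right (hC.nb_sq hF hb).1
  have hmem : ∀ {p q : ↥(Subgroup.centralizer ({x} : Set G))}, (p : G) ∈ nb D x → (q : G) ∈ nb D x →
      ((p * q * p : ↥(Subgroup.centralizer ({x} : Set G))) : G) ∈ nb D x := by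
    intro p q hp hq
    obtain ⟨h1, h2⟩ := (hC.mem_nb_iff hF).1 hq
    have hpi := inv_eq_of_mul_eq_one_right (hC.nb_sq hF hp).1
    have hp2 : p * p = 1 := Subtype.ext (hC.nb_sq hF hp).1
    refine (hC.mem_nb_iff hF).2 ⟨h1.trans (isConj_iff.2 ⟨(p : G), by simp [hpi]⟩), fun e => ?_⟩
    have e1 : π q = 1 := by
      have := hC.map_of_eq hF e
      rw [map_mul, map_mul, mul_eq_one_iff_eq_inv] at this
      have hP : π p * π p = 1 := by rw [← map_mul, hp2, map_one]
      rw [inv_eq_of_mul_eq_one_right hP] at this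
      exact mul_eq_left.1 this
    rcases hC.map_eq_one hF e1 with e' | e'
    exacts [(hC.nb_sq hF hq).2 e', h2 e']
  have hP := points_set hF
  have key : ca * cb * ca = cb * ca * cb := hC.eq_of_map hF (hmem ha hb) (hmem hb ha) (by
    simp only [map_mul]
    exact ThreeTransp.braid hP (hC.map_nb hF ha) (hC.map_nb hF hb) fun h => hab ((hC.commute_map_iff hF ha hb).1 h))
  have k : (ca : G) * cb * ca = (cb : G) * ca * cb := congrArg Subtype.val key
  calc ((ca : G) * cb) ^ 3 = ((ca : G) * cb * ca) * ((cb : G) * ca * cb) := by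
        simp only [pow_succ, pow_zero, one_mul, mul_assoc]
    _ = ((cb : G) * ca * cb) * ((cb : G) * ca * cb) := by rw [k]
    _ = 1 := by
      rw [show (cb : G) * ca * cb * ((cb : G) * ca * cb) = (cb : G) * ca * ((cb : G) * cb) * ca * cb by group,
        (hC.nb_sq hF hb).1, mul_one, mul_assoc (cb : G), (hC.nb_sq hF ha).1, mul_one, (hC.nb_sq hF hb).1]

theorem gen : Subgroup.closure (nb D x) = Subgroup.centralizer ({x} : Set G) := by
  refine le_antisymm ((Subgroup.closure_le _).2 fun y hy => Subgroup.mem_centralizer_singleton_iff.2 hy.2.2.symm.eq) ?_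
  set H : Subgroup ↥(Subgroup.centralizer ({x} : Set G)) :=
    (Subgroup.closure (nb D x)).subgroupOf (Subgroup.centralizer ({x} : Set G)) with hH
  have hmap : H.map π = ⊤ := by
    rw [eq_top_iff, ← closure_points hF, Subgroup.closure_le]
    intro U hU
    obtain ⟨c, rfl, hc⟩ := hC.exists_lift hF hU
    exact ⟨c, Subgroup.subset_closure hc, rfl⟩
  have hall : ∀ c, ∃ h ∈ H, c = h ∨ c = h * zel x := fun c => by
    obtain ⟨h, hh, he⟩ : π c ∈ H.map π := hmap ▸ Subgroup.mem_top _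
    rcases hC.setup.cover.eq_or c h he.symm with e | e
    exacts [⟨h, hh, Or.inl e⟩, ⟨h, hh, Or.inr e⟩]
  have hle : commutator ↥(Subgroup.centralizer ({x} : Set G)) ≤ H := by
    rw [commutator_def, Subgroup.commutator_le]
    intro a _ b _
    have hz := hC.setup.cover.commute_z
    have hz2 : zel x * zel x = 1 := hC.setup.cover.sq
    obtain ⟨p, hp, ha⟩ := hall a
    obtain ⟨q, hq, hb⟩ := hall b
    have hm : p * q * p⁻¹ * q⁻¹ ∈ H := mul_mem (mul_mem (mul_mem hp hq) (inv_mem hp)) (inv_mem hq)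
    have key : ∀ s t : ↥(Subgroup.centralizer ({x} : Set G)), (s * zel x) * t * (s * zel x)⁻¹ = s * t * s⁻¹ := by
      intro s t
      rw [mul_inv_rev, mul_assoc s (zel x) t, (hz t).symm.eq]
      group
    have key2 : ∀ s t : ↥(Subgroup.centralizer ({x} : Set G)), s * (t * zel x) * s⁻¹ * (t * zel x)⁻¹ = s * t * s⁻¹ * t⁻¹ := by
      intro s t
      rw [mul_inv_rev, show s * (t * zel x) * s⁻¹ = s * t * (zel x * s⁻¹) by group, (hz s⁻¹).symm.eq]
      group
    show a * b * a⁻¹ * b⁻¹ ∈ H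
    rcases ha with rfl | rfl <;> rcases hb with rfl | rfl <;> (try simp only [key]) <;> (try simp only [key2]) <;> exact hm
  intro g hg
  exact hle (show (⟨g, hg⟩ : ↥(Subgroup.centralizer ({x} : Set G))) ∈ commutator _ from hC.perfect ▸ Subgroup.mem_top _)

theorem central {z : G} (hz : Commute z x) (hall : ∀ y ∈ nb D x, Commute y z) : z = 1 ∨ z = x := by
  set c : ↥(Subgroup.centralizer ({x} : Set G)) := ⟨z, Subgroup.mem_centralizer_singleton_iff.2 hz.eq⟩
  have h : π c ∈ Subgroup.center PU := mem_center_of_forall_commute (closure_points hF) fun U hU => by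
    obtain ⟨u, rfl, hu⟩ := hC.exists_lift hF hU
    exact (show Commute c u from Subtype.ext (hall _ hu).eq.symm).map π
  rw [center_psu6 hF, Subgroup.mem_bot] at h
  exact hC.map_eq_one hF h

theorem two {a b : G} (ha : a ∈ nb D x) (hb : b ∈ nb D x) : a * b ≠ x := by
  obtain ⟨ca, rfl⟩ := exists_el ha
  obtain ⟨cb, rfl⟩ := exists_el hb
  intro h
  have := hC.map_of_eq hF (c := ca * cb) h
  have hbb : π cb * π cb = 1 := by
    rw [← map_mul, show cb * cb = 1 from Subtype.ext (hC.nb_sq hF hb).1, map_one]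
  rw [map_mul, mul_eq_one_iff_eq_inv, inv_eq_of_mul_eq_one_right hbb] at this
  obtain rfl := hC.eq_of_map hF ha hb this
  rw [(hC.nb_sq hF ha).1] at h
  exact hC.setup.ne h.symm

theorem noProd {n : ℕ} (h1 : 1 ≤ n) (h4 : n ≤ 4) {l : List G} (hnd : l.Nodup) (hlen : l.length = n)
    (hmem : ∀ a ∈ l, a ∈ nb D x) (hcomm : ∀ a ∈ l, ∀ b ∈ l, Commute a b) : l.prod ≠ x := by
  intro hp
  let f : ∀ a, a ∈ l → ↥(Subgroup.centralizer ({x} : Set G)) := fun a ha =>
    ⟨a, Subgroup.mem_centralizer_singleton_iff.2 (hmem a ha).2.2.symm.eq⟩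
  refine noProd_points hF h1 h4 (l.pmap (fun a ha => π (f a ha)) fun _ h => h) ?_ (by simpa using hlen) ?_ ?_ ?_
  · refine hnd.pmap ?_
    intro a ha b hb h
    exact congrArg Subtype.val (hC.eq_of_map hF (hmem a ha) (hmem b hb) h)
  · intro U hU
    obtain ⟨a, ha, rfl⟩ := List.mem_pmap.1 hU
    exact hC.map_nb hF (hmem a ha)
  · intro U hU W hW
    obtain ⟨a, ha, rfl⟩ := List.mem_pmap.1 hU
    obtain ⟨b, hb, rfl⟩ := List.mem_pmap.1 hW
    exact (show Commute (f a ha) (f b hb) from Subtype.ext (hcomm a ha b hb).eq).map π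
  · have e : (l.pmap (fun a ha => π (f a ha)) fun _ h => h) = (l.pmap f fun _ h => h).map π := by
      rw [List.map_pmap]
    rw [e, ← map_list_prod]
    refine hC.map_of_eq hF ?_
    rw [show ((l.pmap f fun _ h => h).prod : G) = _ from map_list_prod (Subgroup.centralizer ({x} : Set G)).subtype _,
      List.map_pmap]
    simp [f, List.pmap_eq_map, hp]

theorem nbtrans {a b : G} (ha : a ∈ nb D x) (hb : b ∈ nb D x) : ∃ g : G, Commute g x ∧ g * a * g⁻¹ = b := by
  obtain ⟨ca, rfl⟩ := exists_el ha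
  obtain ⟨cb, rfl⟩ := exists_el hb
  obtain ⟨U, hU⟩ := points_trans hF (hC.map_nb hF ha) (hC.map_nb hF hb)
  obtain ⟨k, rfl⟩ := hC.setup.cover.surj U
  have hk : Commute (k : G) x := Subgroup.mem_centralizer_singleton_iff.1 k.2
  refine ⟨k, hk, congrArg Subtype.val (hC.eq_of_map hF (c := k * ca * k⁻¹) ?_ hb (by simpa using hU))⟩
  have hD : ∀ g : G, ∀ y ∈ D, g * y * g⁻¹ ∈ D := fun g y hy => by
    rw [hC.cls] at hy ⊢
    exact (show IsConj x y from hy).trans (isConj_iff.2 ⟨g, rfl⟩)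
  have h := conj_mem_nb hD (k : G) ha
  rwa [hk.eq, mul_inv_cancel_right] at h

theorem common {a b : G} (ha : a ∈ nb D x) (hb : b ∈ nb D x) :
    ∃ c ∈ nb D x, c ≠ a ∧ c ≠ b ∧ Commute c a ∧ Commute c b := by
  obtain ⟨ca, rfl⟩ := exists_el ha
  obtain ⟨cb, rfl⟩ := exists_el hb
  obtain ⟨U, hU, h1, h2, h3, h4⟩ := points_common hF (hC.map_nb hF ha) (hC.map_nb hF hb)
  obtain ⟨c, rfl, hc⟩ := hC.exists_lift hF hU
  exact ⟨c, hc, fun e => h1 (congrArg π (Subtype.ext e)), fun e => h2 (congrArg π (Subtype.ext e)),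
    (hC.commute_map_iff hF hc ha).1 h3, (hC.commute_map_iff hF hc hb).1 h4⟩

theorem line {a b : G} (ha : a ∈ nb D x) (hb : b ∈ nb D x) (hab : Commute a b) (hne : a ≠ b) :
    ∃ u w s, Line (nb D x) x a b u w s := by
  obtain ⟨ca, rfl⟩ := exists_el ha
  obtain ⟨cb, rfl⟩ := exists_el hb
  obtain ⟨U, W, S, hnd, hmem, hcomm, hprod, hclosed, hmax⟩ := points_line hF (hC.map_nb hF ha) (hC.map_nb hF hb)
    ((hC.commute_map_iff hF ha hb).2 hab) (fun e => hne (congrArg Subtype.val (hC.eq_of_map hF ha hb e)))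
  obtain ⟨u, rfl, hu⟩ := hC.exists_lift hF (hmem U (by simp))
  obtain ⟨w, rfl, hw⟩ := hC.exists_lift hF (hmem W (by simp))
  obtain ⟨s, rfl, hs⟩ := hC.exists_lift hF (hmem S (by simp))
  set L : List ↥(Subgroup.centralizer ({x} : Set G)) := [ca, cb, u, w, s]
  have hL : ∀ c ∈ L, (c : G) ∈ nb D x := by
    intro c hc
    simp only [L, List.mem_cons, List.not_mem_nil, or_false] at hc
    rcases hc with rfl | rfl | rfl | rfl | rfl <;> assumption
  have hmap : L.map π = [π ca, π cb, π u, π w, π s] := rfl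
  have hval : L.map Subtype.val = [(ca : G), (cb : G), (u : G), (w : G), (s : G)] := rfl
  have hin : ∀ v ∈ [(ca : G), (cb : G), (u : G), (w : G), (s : G)],
      ∃ c ∈ L, (c : G) = v ∧ π c ∈ [π ca, π cb, π u, π w, π s] := fun v hv => by
    rw [← hval] at hv
    obtain ⟨c, hc, rfl⟩ := List.mem_map.1 hv
    exact ⟨c, hc, rfl, hmap ▸ List.mem_map.2 ⟨c, hc, rfl⟩⟩
  refine ⟨u, w, s, ⟨?_, fun v hv => ?_, fun v hv v' hv' => ?_, ?_, ?_, fun v hv hz => ?_⟩⟩
  · rw [← hval]
    exact (List.Nodup.of_map π (hmap.symm ▸ hnd)).map Subtype.val_injective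
  · obtain ⟨c, hc, rfl, -⟩ := hin v hv
    exact hL c hc
  · obtain ⟨c, hc, rfl, h1⟩ := hin v hv
    obtain ⟨c', hc', rfl, h2⟩ := hin v' hv'
    exact (hC.commute_map_iff hF (hL c hc) (hL c' hc')).1 (hcomm _ h1 _ h2)
  · have h1 : π L.prod = 1 := by rw [map_list_prod, hmap, hprod]
    have h2 := hC.map_eq_one hF h1
    rwa [show ((L.prod : ↥(Subgroup.centralizer ({x} : Set G))) : G) = (L.map Subtype.val).prod from
      map_list_prod (Subgroup.centralizer ({x} : Set G)).subtype L, hval] at h2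
  · intro p hp q hq hpq z hz hzp hzq v hv
    obtain ⟨cp, hcp, rfl, hp'⟩ := hin p hp
    obtain ⟨cq, hcq, rfl, hq'⟩ := hin q hq
    obtain ⟨cv, hcv, rfl, hv'⟩ := hin v hv
    obtain ⟨cz, rfl⟩ := exists_el hz
    exact (hC.commute_map_iff hF hz (hL cv hcv)).1 (hclosed _ hp' _ hq'
      (fun e => hpq (congrArg Subtype.val (hC.eq_of_map hF (hL cp hcp) (hL cq hcq) e))) _ (hC.map_nb hF hz)
      ((hC.commute_map_iff hF hz (hL cp hcp)).2 hzp) ((hC.commute_map_iff hF hz (hL cq hcq)).2 hzq) _ hv')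
  · obtain ⟨cv, rfl⟩ := exists_el hv
    have h := hmax _ (hC.map_nb hF hv) (fun e he h1 h2 => by
      obtain ⟨ce, rfl, hce⟩ := hC.exists_lift hF he
      exact (hC.commute_map_iff hF hce hv).2 (hz _ hce ((hC.commute_map_iff hF hce ha).1 h1)
        ((hC.commute_map_iff hF hce hb).1 h2)))
    rw [← hmap] at h
    obtain ⟨c, hc, he⟩ := List.mem_map.1 h
    rw [← hC.eq_of_map hF (hL c hc) hv he, ← hval]
    exact List.mem_map.2 ⟨c, hc, rfl⟩

theorem ncard_of_map {S : Set G} {T : Set PU} (hS : S ⊆ nb D x)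
    (hST : ∀ c : ↥(Subgroup.centralizer ({x} : Set G)), (c : G) ∈ nb D x → ((c : G) ∈ S ↔ π c ∈ T))
    (hT : T ⊆ points F) : S.ncard = T.ncard := by
  refine Set.ncard_congr (fun a ha => π ⟨a, Subgroup.mem_centralizer_singleton_iff.2 (hS ha).2.2.symm.eq⟩)
    (fun a ha => (hST _ (hS ha)).1 ha) (fun a b ha hb h => congrArg Subtype.val (hC.eq_of_map hF (hS ha) (hS hb) h))
    fun U hU => ?_
  obtain ⟨c, rfl, hc⟩ := hC.exists_lift hF (hT hU)
  exact ⟨c, (hST c hc).2 hU, rfl⟩

theorem ncard_nb : (nb D x).ncard = 693 :=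
  (hC.ncard_of_map hF subset_rfl (fun _ hc => ⟨fun _ => hC.map_nb hF hc, fun _ => hc⟩) subset_rfl).trans
    (ncard_points hF)

theorem com2_mod {a : G} (ha : a ∈ nb D x) : (com2 D x a).ncard % 8 = 4 := by
  obtain ⟨ca, rfl⟩ := exists_el ha
  rw [hC.ncard_of_map hF (T := {U | U ∈ points F ∧ U ≠ π ca ∧ Commute U (π ca)}) Set.inter_subset_left
    (fun c hc => ?_) fun U hU => hU.1, ncard_points_commute hF (hC.map_nb hF ha)]
  constructor
  · rintro ⟨-, -, h1, h2⟩
    exact ⟨hC.map_nb hF hc, fun e => h1 (congrArg Subtype.val (hC.eq_of_map hF hc ha e)),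
      (hC.commute_map_iff hF hc ha).2 h2.symm⟩
  · rintro ⟨-, h1, h2⟩
    exact ⟨hc, hc.1, fun e => h1 (congrArg π (Subtype.ext e)), ((hC.commute_map_iff hF hc ha).1 h2).symm⟩

theorem self_sq {a : G} (ha : a ∈ nb D x) {n : G} (hnx : Commute n x) (hna : Commute n a)
    (hall : ∀ y ∈ com2 D x a, Commute n y) : n * n = 1 := by
  obtain ⟨ca, rfl⟩ := exists_el ha
  obtain ⟨p, hp, hpe⟩ := hC.map_nb hF ha
  obtain ⟨e, f, hfr, he⟩ := exists_frame_one hF hp.1 hp.2
  set cn : ↥(Subgroup.centralizer ({x} : Set G)) := ⟨n, Subgroup.mem_centralizer_singleton_iff.2 hnx.eq⟩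
  have hpt : ∀ U ∈ points F, U ∈ rad e → Commute (π cn) U := by
    intro U hU hr
    obtain ⟨u, rfl, hu⟩ := hC.exists_lift hF hU
    refine (show Commute cn u from Subtype.ext ?_).map π
    by_cases hua : (u : G) = ca
    · rw [Subgroup.coe_mul, Subgroup.coe_mul, hua]; exact hna.eq
    refine (hall _ ⟨hu, hu.1, hua, ?_⟩).eq
    refine (hC.commute_map_iff hF ha hu).1 ?_
    rw [hpe]
    refine (show tv p * π u = π u * tv p from rad_comm hF hfr _ ?_ _ hr)
    rw [← he]; exact mem_rad_point hF hfr (inM_left hF hfr 0)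
  have hmem : π cn ∈ rad e := mem_rad_of_commute hF hfr fun U hU => by
    obtain ⟨l, hl, rfl⟩ := exists_list hF hfr hU
    exact (Commute.list_prod_right _ _ fun W hW => hpt W (hl W hW).1 (hl W hW).2).eq
  exact hC.setup.pre_rad_sq hF hfr n ⟨cn, hmem, rfl⟩

end Cov

/-- All local hypotheses. -/
theorem hyp_of_cov {d : G} {π : ↥(Subgroup.centralizer ({d} : Set G)) →* Cfsg.PSU 6 F 2}
    (hF : Fintype.card F = 4) (hC : Cov (conjugatesOf d) d π) : Hyp (conjugatesOf d) := by
  have hat : ∀ x ∈ conjugatesOf d, ∃ π' : ↥(Subgroup.centralizer ({x} : Set G)) →* Cfsg.PSU 6 F 2,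
      Cov (conjugatesOf d) x π' := fun x hx => by
    obtain ⟨g, rfl⟩ := isConj_iff.1 (show IsConj d x from hx)
    exact exists_cov_conj hC g
  constructor
  · intro x hx; obtain ⟨p, h⟩ := hat x hx; exact h.setup.sq
  · intro x hx; obtain ⟨p, h⟩ := hat x hx; exact h.setup.ne
  · intro g x hx; exact (show IsConj d x from hx).trans (isConj_iff.2 ⟨g, rfl⟩)
  · intro x hx y hy; exact isConj_iff.1 ((show IsConj d x from hx).symm.trans hy)
  · intro x hx; obtain ⟨p, h⟩ := hat x hx; exact h.nbset hF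
  · intro x hx; obtain ⟨p, h⟩ := hat x hx; exact h.gen hF
  · intro x hx; obtain ⟨p, h⟩ := hat x hx; exact h.perfect
  · intro x hx z h1 h2; obtain ⟨p, h⟩ := hat x hx; exact h.central hF h1 h2
  · intro x hx a ha b hb; obtain ⟨p, h⟩ := hat x hx; exact h.two hF ha hb
  · intro x hx a ha b hb c hc hnd hab hac hbc
    obtain ⟨p, h⟩ := hat x hx
    have := h.noProd hF (n := 3) (l := [a, b, c]) (by norm_num) (by norm_num) hnd rfl
      (by
        intro v hv
        simp only [List.mem_cons, List.not_mem_nil, or_false] at hv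
        rcases hv with rfl | rfl | rfl <;> assumption) (by simp [hab, hac, hbc, hab.symm, hac.symm, hbc.symm])
    simpa [mul_assoc] using this
  · intro x hx l h1 h2 h3 h4; obtain ⟨p, h⟩ := hat x hx; exact h.noProd hF (n := 4) (by norm_num) le_rfl h1 h2 h3 h4
  · intro x hx a ha b hb; obtain ⟨p, h⟩ := hat x hx; exact h.nbtrans hF ha hb
  · intro x hx a ha b hb; obtain ⟨p, h⟩ := hat x hx; exact h.common hF ha hb
  · intro x hx a ha b hb h1 h2; obtain ⟨p, h⟩ := hat x hx; exact h.line hF ha hb h1 h2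
  · intro x hx a ha; obtain ⟨p, h⟩ := hat x hx; exact h.com2_mod hF ha
  · intro x hx; obtain ⟨p, h⟩ := hat x hx; rw [h.ncard_nb hF]; decide
  · intro x hx a ha n h1 h2 h3; obtain ⟨p, h⟩ := hat x hx; exact h.self_sq hF ha h1 h2 h3

end Cfsg.Agent.Lib.Fischer3T60.Recog
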