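import Cfsg.Agent.Lib.Fi22Unique49.Main
import Cfsg.Agent.Lib.Fischer3T98.Exist22
import Cfsg.Agent.Lib.Fischer3T60.Recog.Count
import Cfsg.Agent.Lib.Fischer3T60.Recog.Group
import Cfsg.Agent.Lib.Fischer3T60.Recog.Local

/-!
# The group is of type M(22)
-/

set_option autoImplicit false

namespace Cfsg.Agent.Lib.Fischer3T60.Recog

open Cfsg Cfsg.Spor Cfsg.Agent.Lib.ThreeTransp Cfsg.Agent.Lib.ThreeTransp.PSUSix Cfsg.Agent.Lib.M22Struct66

/-- Being of type M(22) moves along an isomorphism. -/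
theorem isOfTypeM22_map {H G : Type*} [Group H] [Group G] (e : H ≃* G) {E : Set H} {D : Set G}
    (hE : ∀ y, y ∈ E ↔ e y ∈ D) (h : IsOfTypeM22 H E) : IsOfTypeM22 G D := by
  obtain ⟨hZ, d, hd, c, hc, hnc, ⟨F, i1, i2, hF, ⟨φ⟩⟩, c₃, hc₃, Q, hQ1, hQ2, ⟨ψ⟩⟩ := h
  have hcl : ∀ S : Set H, (Subgroup.closure S).map e.toMonoidHom = Subgroup.closure (e '' S) := fun S =>
    MonoidHom.map_closure _ _
  have hquot : ∀ (A : Subgroup H) (B : Subgroup G), A.map e.toMonoidHom = B →
      Nonempty (↥A ⧸ Subgroup.center ↥A ≃* ↥B ⧸ Subgroup.center ↥B) := by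
    rintro A _ rfl
    exact ⟨QuotientGroup.congr _ _ (e.subgroupMap A) (Classical.map_center_mulEquiv (e.subgroupMap A))⟩
  have hnb : ∀ a, e '' {y : H | y ∈ E ∧ y ≠ a ∧ Commute a y} = {y : G | y ∈ D ∧ y ≠ e a ∧ Commute (e a) y} := by
    intro a
    ext y
    constructor
    · rintro ⟨x, ⟨h1, h2, h3⟩, rfl⟩
      exact ⟨(hE x).1 h1, fun he => h2 (e.injective he), h3.map e.toMonoidHom⟩
    · rintro ⟨h1, h2, h3⟩
      refine ⟨e.symm y, ⟨(hE _).2 (by simpa using h1), fun he => h2 (by rw [← he, e.apply_symm_apply]), ?_⟩, by simp⟩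
      have := h3.map e.symm.toMonoidHom
      simpa using this
  refine ⟨?_, e d, (hE d).1 hd, e c, (hE c).1 hc, fun hh => hnc (by simpa using hh.map e.symm.toMonoidHom), ?_, ?_⟩
  · rw [← Classical.map_center_mulEquiv e, hZ, Subgroup.map_bot]
  · obtain ⟨θ⟩ := hquot _ _ ((hcl _).trans (congrArg Subgroup.closure (hnb d)))
    exact ⟨F, i1, i2, hF, ⟨θ.symm.trans φ⟩⟩
  · have hset : e '' ({y : H | y ∈ E ∧ y ≠ d ∧ Commute d y} ∩ {y : H | y ∈ E ∧ y ≠ c ∧ Commute c y}) =
        {y : G | y ∈ D ∧ y ≠ e d ∧ Commute (e d) y} ∩ {y : G | y ∈ D ∧ y ≠ e c ∧ Commute (e c) y} := by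
      rw [Set.image_inter e.injective, hnb, hnb]
    obtain ⟨θ⟩ := hquot _ _ ((hcl _).trans (congrArg Subgroup.closure hset))
    exact ⟨c₃, hc₃, Q, hQ1, hQ2, ⟨θ.symm.trans ψ⟩⟩

variable {G : Type*} [Group G] [Finite G] {F : Type} [Field F] [Fintype F]

/-- Counted charts give the presented Fischer group. -/
theorem exists_iso_of_counted {D : Set G} (hC : Counted D F) :
    ∃ e : Spor.Fi22 ≃* G, e (PresentedGroup.of Fi22.Gen.a) ∈ D := by
  obtain ⟨p, hp⟩ := Fi22Unique49.exists_conf hC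
  obtain ⟨φ, hφ⟩ := Fi22Unique49.exists_hom (hp.rel hC) (hp.nineA_eq_one hC) (hp.nineB_eq_one hC) (hp.ten_eq_one hC)
  have hG : Nat.card G = 64561751654400 := by rw [hC.card_G]; norm_num
  obtain ⟨hsimple, hcard⟩ := S1696.result
  have hfin : Finite Spor.Fi22 := S1696.order_le.1
  have hinj : Function.Injective φ := by
    rcases φ.normal_ker.eq_bot_or_eq_top with h | h
    · exact (MonoidHom.ker_eq_bot_iff φ).mp h
    · exfalso
      have ha : φ (PresentedGroup.of Fi22.Gen.a) = 1 := MonoidHom.mem_ker.mp (by rw [h]; trivial)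
      rw [hφ] at ha
      exact ThreeTransp.ne_one hC.set (hp.mem 0 (by norm_num)) ha
  have hbij : Function.Bijective φ :=
    (Nat.bijective_iff_injective_and_card φ).2 ⟨hinj, hcard.trans hG.symm⟩
  refine ⟨MulEquiv.ofBijective φ hbij, ?_⟩
  show φ _ ∈ D
  rw [hφ]
  exact hp.mem 0 (by norm_num)

/-- An involution whose centraliser covers `PSU₆(2)` and fuses into it. -/
theorem typeM22_of_cov (hF : Fintype.card F = 4) {d : G}
    {π : ↥(Subgroup.centralizer ({d} : Set G)) →* Cfsg.PSU 6 F 2} (hC : Cov (conjugatesOf d) d π) :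
    IsThreeTranspositionClass (conjugatesOf d) ∧ IsOfTypeM22 G (conjugatesOf d) := by
  have hH := hyp_of_cov hF hC
  have hd : d ∈ conjugatesOf d := mem_conjugatesOf_self
  refine ⟨hH.isClass hd, ?_⟩
  have hbig : 2 ^ 15 ∣ Nat.card ↥(Subgroup.centralizer ({d} : Set G)) := by
    rw [hC.setup.card_centralizer hF]; norm_num
  have hX : Ctx (conjugatesOf d) := hH.ctx hd hbig
  have hchart : ∀ x ∈ conjugatesOf d, Nonempty (Chart (conjugatesOf d) x F) := by
    intro x hx
    obtain ⟨g, rfl⟩ := isConj_iff.1 (show IsConj d x from hx)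
    obtain ⟨π', hC'⟩ := exists_cov_conj hC g
    set E := MulEquiv.subgroupCongr (hH.gen _ hx)
    refine ⟨{ ψ := π'.comp E.toMonoidHom, surj := hC'.setup.cover.surj.comp E.surjective,
              ker := fun z hz => hC'.map_eq_one hF (c := E z) hz,
              mem := fun y hy => ?_, onto := fun v hv => ?_ }⟩
    · obtain ⟨v, hv, he⟩ := hC'.map_nb hF (c := E (inc hy)) hy
      exact ⟨v, hv, he⟩
    · obtain ⟨c, hc, hcn⟩ := hC'.exists_lift hF (U := tv v) ⟨v, hv, rfl⟩
      exact ⟨c, hcn, (congrArg π' (Subtype.ext rfl)).trans hc⟩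
  have hCd : Charted (conjugatesOf d) F := { toCtx := hX, card := hF, chart := hchart }
  obtain ⟨e, he⟩ := exists_iso_of_counted (counted_of_charted hCd fun x hx => (hH.gen x hx).symm)
  obtain ⟨M⟩ := Fischer3T98.Fi22.exists_act
  refine isOfTypeM22_map e (fun y => ?_) (Fischer3T98.Fi22.isOfTypeM22 M)
  have hda : IsConj d (e (PresentedGroup.of Fi22.Gen.a)) := he
  constructor
  · intro hy
    exact hda.trans (e.toMonoidHom.map_isConj (show IsConj (PresentedGroup.of Fi22.Gen.a) y from hy))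
  · intro hy
    have h := e.symm.toMonoidHom.map_isConj (hda.symm.trans (show IsConj d (e y) from hy))
    simp only [MulEquiv.coe_toMonoidHom, MulEquiv.symm_apply_apply] at h
    exact h

end Cfsg.Agent.Lib.Fischer3T60.Recog
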