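import Cfsg.Agent.Lib.Fischer3T60.Recog.Basic

/-!
# No member interchanges two commuting members
-/

set_option autoImplicit false

namespace Cfsg.Agent.Lib.Fischer3T60.Recog

open Cfsg Cfsg.Agent.Lib.ThreeTransp Cfsg.Agent.Lib.M22Struct66

variable {G : Type*} [Group G] [Finite G] {D : Set G}

/-- The common neighbours of `d` and `t` on the line through `t` and `y`. -/
def lineBlock (D : Set G) (d t y : G) : Set G :=
  {v | v ∈ com2 D d t ∧ ∀ z ∈ D, Commute z d → Commute z t → Commute z y → Commute z v}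

namespace Hyp

variable (hH : Hyp D) {d t : G} (hd : d ∈ D) (ht : t ∈ nb D d)
include hH hd ht

theorem block_spec {y : G} (hy : y ∈ com2 D d t) : ∃ u w s, Line (nb D d) d t y u w s ∧
    (∀ v, v ∈ lineBlock D d t y ↔ v ∈ [y, u, w, s]) ∧ ∀ v ∈ lineBlock D d t y, lineBlock D d t v = lineBlock D d t y := by
  obtain ⟨u, w, s, hL⟩ := hH.line d hd t ht y hy.1 hy.2.2.2 hy.2.2.1.symm
  have hnd := hL.nodup
  have hin : ∀ v ∈ [y, u, w, s], v ∈ [t, y, u, w, s] := fun v hv => List.mem_cons_of_mem _ hv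
  have hne : ∀ v ∈ [y, u, w, s], v ≠ t := fun v hv e => (List.nodup_cons.1 hnd).1 (e ▸ hv)
  have hmem : ∀ v, v ∈ lineBlock D d t y ↔ v ∈ [y, u, w, s] := by
    intro v
    constructor
    · rintro ⟨hv, hz⟩
      have := hL.max v hv.1 fun z hzn hzt hzy => hz z hzn.1 hzn.2.2.symm hzt hzy
      exact (List.mem_cons.1 this).resolve_left hv.2.2.1
    · intro hv
      have hvS := hL.mem v (hin v hv)
      refine ⟨⟨hvS, hvS.1, hne v hv, hL.comm t (by simp) v (hin v hv)⟩, fun z hz hzd hzt hzy => ?_⟩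
      by_cases he : z = d
      · exact he ▸ hvS.2.2
      · exact hL.closed t (by simp) y (by simp) hy.2.2.1.symm z ⟨hz, he, hzd.symm⟩ hzt hzy v (hin v hv)
  refine ⟨u, w, s, hL, hmem, fun v hv => ?_⟩
  ext v'
  refine ⟨fun ⟨h1, h2⟩ => ⟨h1, fun z hz hzd hzt hzy => h2 z hz hzd hzt (hv.2 z hz hzd hzt hzy)⟩,
    fun ⟨h1, h2⟩ => ⟨h1, fun z hz hzd hzt hzv => h2 z hz hzd hzt ?_⟩⟩
  by_cases he : z = d
  · exact he ▸ hy.1.2.2
  · exact hL.closed t (by simp) v (hin v ((hmem v).1 hv)) (hne v ((hmem v).1 hv)).symm z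
      ⟨hz, he, hzd.symm⟩ hzt hzv y (by simp)

theorem ncard_block {y : G} (hy : y ∈ com2 D d t) : (lineBlock D d t y).ncard = 4 := by
  classical
  obtain ⟨u, w, s, hL, hmem, -⟩ := hH.block_spec hd ht hy
  have e : lineBlock D d t y = ↑[y, u, w, s].toFinset := by ext v; rw [hmem v]; simp
  rw [e, Set.ncard_coe_finset, List.toFinset_card_of_nodup (List.nodup_cons.1 hL.nodup).2]
  rfl

omit hd in
omit [Finite G] in
theorem self_mem_block {y : G} (hy : y ∈ com2 D d t) : y ∈ lineBlock D d t y :=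
  ⟨hy, fun _ _ _ _ h => h⟩

/-- An involution acting on the blocks fixes one of them. -/
theorem exists_fixed_block {f : G → G} (hf : ∀ y ∈ com2 D d t, f y ∈ com2 D d t)
    (hff : ∀ y ∈ com2 D d t, f (f y) = y)
    (hblk : ∀ y ∈ com2 D d t, f '' lineBlock D d t y = lineBlock D d t (f y)) :
    ∃ y ∈ com2 D d t, f y ∈ lineBlock D d t y := by
  classical
  set M := (Set.toFinite (com2 D d t)).toFinset with hM
  have hmemM : ∀ y, y ∈ M ↔ y ∈ com2 D d t := fun y => Set.Finite.mem_toFinset _
  set 𝔅 := M.image (lineBlock D d t) with h𝔅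
  have hodd : Odd 𝔅.card := by
    have hcard : M.card = 𝔅.card * 4 := by
      rw [Finset.card_eq_sum_card_image (lineBlock D d t) M, Finset.sum_const_nat]
      intro b hb
      obtain ⟨y, hy, rfl⟩ := Finset.mem_image.1 hb
      rw [hmemM] at hy
      rw [← hH.ncard_block hd ht hy, ← Set.ncard_coe_finset]
      congr 1
      ext v
      simp only [Finset.coe_filter, Set.mem_ofPred_eq, hmemM]
      refine ⟨fun ⟨hv, e⟩ => e ▸ hH.self_mem_block ht hv, fun hv => ?_⟩
      obtain ⟨-, -, -, -, -, h⟩ := hH.block_spec hd ht hy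
      exact ⟨hv.1, h v hv⟩
    have h8 := hH.com2_mod d hd t ht
    rw [Set.ncard_eq_toFinset_card _ (Set.toFinite _), ← hM] at h8
    rw [Nat.odd_iff]; omega
  by_contra! hno
  have key : (∑ _b ∈ 𝔅, (1 : ZMod 2)) = 0 := by
    refine Finset.sum_involution (fun b _ => f '' b) (fun _ _ => rfl) ?_ ?_ ?_
    · intro b hb _ he
      obtain ⟨y, hy, rfl⟩ := Finset.mem_image.1 hb
      rw [hmemM] at hy
      rw [hblk y hy] at he
      exact hno y hy (he ▸ hH.self_mem_block ht (hf y hy))
    · intro b hb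
      obtain ⟨y, hy, rfl⟩ := Finset.mem_image.1 hb
      rw [hmemM] at hy
      exact Finset.mem_image.2 ⟨f y, (hmemM _).2 (hf y hy), (hblk y hy).symm⟩
    · intro b hb
      obtain ⟨y, hy, rfl⟩ := Finset.mem_image.1 hb
      rw [hmemM] at hy
      show f '' (f '' lineBlock D d t y) = _
      rw [hblk y hy, hblk _ (hf y hy), hff y hy]
  rw [Finset.sum_const, nsmul_one, ZMod.natCast_eq_zero_iff_even] at key
  exact Nat.not_even_iff_odd.2 hodd key

theorem no_swap {x : G} (hx : x ∈ D) : x * d * x ≠ t := by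
  intro hswap
  have hdd := hH.sq d hd
  have hxx := hH.sq x hx
  have hxtx : x * t * x = d := by rw [← hswap, hH.sandwich_sandwich hx]
  have hdt : d ≠ t := ht.2.1.symm
  have hi : x * (d * t) * x = d * t := by
    rw [show x * (d * t) * x = (x * d * x) * (x * t * x) by simp [mul_assoc, hH.mm_cancel hx], hswap, hxtx]
    exact ht.2.2.symm.eq
  have hxi : Commute x (d * t) := (hH.sandwich_fix hx).1 hi
  have hxd : x ≠ d := fun e => hdt (by rw [← hswap, e, hdd, one_mul])
  -- no common neighbour commutes with `x`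
  have hno : ∀ y ∈ com2 D d t, ¬ Commute x y := by
    intro y hy hxy
    have hxy' : x ≠ y := by
      rintro rfl
      exact hdt (((hH.sandwich_fix hx).2 hy.1.2.2.symm).symm.trans hswap)
    have h1 : x ∈ nb D y := ⟨hx, hxy', hxy.symm⟩
    have h2 : d ∈ nb D y := hH.nb_symm hd hy.1
    have hsq : (x * d) ^ 2 = t * d := by rw [pow_two, ← mul_assoc, hswap]
    rcases (hH.nbset y hy.1.1).2 x h1 d h2 with h | h
    · rw [hsq] at h
      exact hdt ((hH.mul_eq_one_iff ht.1).1 h)
    · rw [pow_succ', hsq] at h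
      have h' : x * d * (t * d) * (t * d) = t * d := by rw [h, one_mul]
      have hsq1 : (t * d) * (t * d) = 1 := by
        rw [← mul_assoc, mul_assoc t, ht.2.2.eq, ← mul_assoc, hH.sq t ht.1, one_mul, hdd]
      rw [mul_assoc (x * d), hsq1, mul_one] at h'
      exact hdt (by rw [← hswap, mul_right_cancel h', hH.sandwich_fix ht.1 |>.2 ht.2.2.symm])
  set f : G → G := fun y => x * y * x with hf
  have hfM : ∀ y ∈ com2 D d t, f y ∈ com2 D d t := by
    intro y hy
    have h1 := hH.nb_conj x hy.1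
    have h2 := hH.nb_conj x hy.2
    rw [hH.inv_mem_eq hx, hswap] at h1
    rw [hH.inv_mem_eq hx, hxtx] at h2
    exact ⟨h2, h1⟩
  have hff : ∀ y, f (f y) = y := fun y => hH.sandwich_sandwich hx y
  have hsub : ∀ y ∈ com2 D d t, ∀ v ∈ lineBlock D d t y, f v ∈ lineBlock D d t (f y) := by
    intro y hy v hv
    refine ⟨hfM v hv.1, fun z hz hzd hzt hzy => ?_⟩
    have e1 := (hH.commute_sandwich hx z d).2 hzd
    have e2 := (hH.commute_sandwich hx z t).2 hzt
    have e3 := (hH.commute_sandwich hx z (f y)).2 hzy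
    rw [hswap] at e1
    rw [hxtx] at e2
    rw [show x * f y * x = y from hff y] at e3
    have := (hH.commute_sandwich hx _ v).2 (hv.2 _ (hH.sandwich_mem hx hz) e2 e1 e3)
    rwa [hH.sandwich_sandwich hx] at this
  have hblk : ∀ y ∈ com2 D d t, f '' lineBlock D d t y = lineBlock D d t (f y) := by
    intro y hy
    refine Set.Subset.antisymm (by rintro _ ⟨v, hv, rfl⟩; exact hsub y hy v hv) fun v hv => ?_
    refine ⟨f v, ?_, hff v⟩
    have := hsub _ (hfM y hy) v hv
    rwa [hff] at this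
  obtain ⟨y, hy, hfy⟩ := hH.exists_fixed_block hd ht hfM (fun y _ => hff y) hblk
  obtain ⟨u, w, s, hL, hmem, hsame⟩ := hH.block_spec hd ht hy
  have hnofix : ∀ z ∈ com2 D d t, f z ≠ z := fun z hz e => hno z hz ((hH.sandwich_fix hx).1 e)
  -- name the block `{y, f y, p, f p}`
  obtain ⟨p, hp, hpy, hpfy⟩ : ∃ p ∈ lineBlock D d t y, p ≠ y ∧ p ≠ f y := by
    by_contra! hh
    have hle : (lineBlock D d t y).ncard ≤ ({y, f y} : Set G).ncard :=
      Set.ncard_le_ncard (fun v hv => (em (v = y)).imp id fun h => hh v hv h) (Set.toFinite _)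
    rw [hH.ncard_block hd ht hy] at hle
    have : ({y, f y} : Set G).ncard ≤ 2 := (Set.ncard_insert_le _ _).trans (by simp)
    omega
  have hfp : f p ∈ lineBlock D d t y := by
    have := hsub y hy p hp
    rwa [hsame _ hfy] at this
  have hfpy : f p ≠ y := fun e => hpfy (by rw [← e, hff])
  have hfpfy : f p ≠ f y := fun e => hpy (by rw [← hff p, e, hff])
  have hnd : [t, y, f y, p, f p].Nodup := by
    have ht' : ∀ v ∈ lineBlock D d t y, t ≠ v := fun v hv => hv.1.2.2.1.symm
    have := hnofix y hy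
    have := hnofix p hp.1
    simp only [List.nodup_cons, List.mem_cons, List.not_mem_nil, or_false, not_or, not_false_eq_true,
      List.nodup_nil, and_true]
    exact ⟨⟨ht' y (hH.self_mem_block ht hy), ht' _ hfy, ht' p hp, ht' _ hfp⟩,
      ⟨(hnofix y hy).symm, hpy.symm, hfpy.symm⟩, ⟨hpfy.symm, hfpfy.symm⟩, (hnofix p hp.1).symm⟩
  have hperm : [t, y, f y, p, f p].Perm [t, y, u, w, s] := by
    refine List.Perm.cons t ((List.subperm_of_subset (List.nodup_cons.1 hnd).2 ?_).perm_of_length_le (by simp))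
    intro v hv
    refine (hmem v).1 ?_
    simp only [List.mem_cons, List.not_mem_nil, or_false] at hv
    rcases hv with rfl | rfl | rfl | rfl
    exacts [hH.self_mem_block ht hy, hfy, hp, hfp]
  have hin : ∀ v ∈ [t, y, f y, p, f p], v ∈ [t, y, u, w, s] := fun v hv => hperm.mem_iff.1 hv
  have hcm : ∀ a ∈ [t, y, f y, p, f p], ∀ b ∈ [t, y, f y, p, f p], Commute a b :=
    fun a ha b hb => hL.comm a (hin a ha) b (hin b hb)
  have hprod : [t, y, f y, p, f p].prod = 1 ∨ [t, y, f y, p, f p].prod = d := by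
    have he : [t, y, f y, p, f p].prod = [t, y, u, w, s].prod :=
      hperm.prod_eq' (List.pairwise_of_forall_mem_list fun a ha b hb => hcm a ha b hb)
    rw [he]; exact hL.prod
  have hcfv : ∀ z, z ∈ [t, y, f y, p, f p] → ∀ z', z' ∈ [t, y, f y, p, f p] → Commute z z' :=
    fun z hz z' hz' => hcm z hz z' hz'
  set v := y * f y with hv
  set r := p * f p with hr
  have hvr : [t, y, f y, p, f p].prod = t * (v * r) := by simp [hv, hr, mul_assoc]
  have hxv : Commute x v := by
    refine (hH.sandwich_fix hx).1 ?_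
    rw [show x * v * x = f y * f (f y) by simp [hv, hf, mul_assoc, hH.mm_cancel hx], hff, hv]
    exact (hcfv _ (by simp) _ (by simp)).eq
  have hxr : Commute x r := by
    refine (hH.sandwich_fix hx).1 ?_
    rw [show x * r * x = f p * f (f p) by simp [hr, hf, mul_assoc, hH.mm_cancel hx], hff, hr]
    exact (hcfv _ (by simp) _ (by simp)).eq
  have htt := hH.sq t ht.1
  have hyD := hy.1.1
  have hpD := hp.1.1.1
  have hv2 : v * v = 1 := by
    rw [hv, (hcfv (f y) (by simp) y (by simp)).mul_mul_mul_comm, hH.sq y hyD, one_mul, hH.sq _ (hfM y hy).1.1]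
  have hr2 : r * r = 1 := by
    rw [hr, (hcfv (f p) (by simp) p (by simp)).mul_mul_mul_comm, hH.sq p hpD, one_mul, hH.sq _ (hfM p hp.1).1.1]
  rcases hprod with hP | hP <;> rw [hvr] at hP
  · -- the product of the two pairs would be `t`, which `x` does not fix
    rw [hH.mul_eq_one_iff ht.1] at hP
    have : Commute x t := hP ▸ hxv.mul_right hxr
    exact hdt (((hH.sandwich_fix hx).2 this).symm.trans hxtx).symm
  · -- three neighbours of `x` with product `x`
    have hivr : d * t * (v * r) = 1 := by rw [mul_assoc, hP, hdd]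
    have hti : (d * t) * (d * t) = 1 := by
      rw [← mul_assoc, mul_assoc d, ← ht.2.2.eq, ← mul_assoc, hdd, one_mul, htt]
    have hwit : ∀ z ∈ D, x * (z * (x * z * x)) = (x * z) * x * (x * z)⁻¹ := fun z hz => by
      rw [mul_inv_rev, hH.inv_mem_eq hx, hH.inv_mem_eq hz]; simp only [mul_assoc]
    have m1 : x * (d * t) ∈ D := by
      have := hH.sandwich_mem hd hx
      rwa [show d * x * d = x * (x * d * x) * d by simp [mul_assoc, hH.mm_cancel hx], hswap, mul_assoc,
        ← ht.2.2.eq] at this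
    have m2 : x * v ∈ D := by rw [hv, hwit y hyD]; exact hH.conj _ x hx
    have m3 : x * r ∈ D := by rw [hr, hwit p hpD]; exact hH.conj _ x hx
    have hne : ∀ z, z ≠ 1 → x * z ≠ x := fun z hz e => hz (mul_eq_left.1 e)
    have hv1 : v ≠ 1 := fun e => hnofix y hy ((hH.mul_eq_one_iff hyD).1 e)
    have hr1 : r ≠ 1 := fun e => hnofix p hp.1 ((hH.mul_eq_one_iff hpD).1 e)
    have hi1 : d * t ≠ 1 := fun e => hdt ((hH.mul_eq_one_iff hd).1 e).symm
    have cvr : Commute v r :=
      ((hcfv y (by simp) p (by simp)).mul_right (hcfv y (by simp) (f p) (by simp))).mul_left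
        ((hcfv (f y) (by simp) p (by simp)).mul_right (hcfv (f y) (by simp) (f p) (by simp)))
    have ctv : ∀ z ∈ [t, y, f y, p, f p], Commute (d * t) z := fun z hz =>
      ((hL.mem z (hin z hz)).2.2).mul_left (hcfv t (by simp) z hz)
    have civ : Commute (d * t) v := (ctv y (by simp)).mul_right (ctv (f y) (by simp))
    have cir : Commute (d * t) r := (ctv p (by simp)).mul_right (ctv (f p) (by simp))
    have nbx : ∀ z, Commute x z → z ≠ 1 → x * z ∈ D → x * z ∈ nb D x := fun z hz h1 hm =>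
      ⟨hm, hne z h1, (Commute.refl x).mul_right hz⟩
    have cc : ∀ z z', Commute x z → Commute x z' → Commute z z' → Commute (x * z) (x * z') := fun z z' h1 h2 h3 =>
      ((Commute.refl x).mul_right h2).mul_left (h1.symm.mul_right h3)
    refine hH.three x hx _ (nbx _ hxi hi1 m1) _ (nbx _ hxv hv1 m2) _ (nbx _ hxr hr1 m3) ?_
      (cc _ _ hxi hxv civ) (cc _ _ hxi hxr cir) (cc _ _ hxv hxr cvr) ?_
    · simp only [List.nodup_cons, List.mem_cons, List.not_mem_nil, or_false, not_or, not_false_eq_true,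
        List.nodup_nil, and_true, mul_right_inj]
      refine ⟨⟨fun e => hr1 ?_, fun e => hv1 ?_⟩, fun e => hi1 ?_⟩
      · rw [e, ← mul_assoc, hv2, one_mul] at hivr; exact hivr
      · rw [e, cvr.eq, ← mul_assoc, hr2, one_mul] at hivr; exact hivr
      · rw [e, hr2, mul_one] at hivr; exact hivr
    · calc x * (d * t) * (x * v) * (x * r) = x * x * (d * t) * v * x * r := by
            rw [show x * (d * t) * (x * v) = x * ((d * t) * x) * v by group, ← hxi.eq]; group
        _ = x * x * (d * t) * (x * v) * r := by rw [hxv.eq]; group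
        _ = x * x * (x * (d * t)) * v * r := by rw [hxi.eq]; group
        _ = x * ((d * t) * (v * r)) := by rw [hxx, one_mul]; group
        _ = x := by rw [hivr, mul_one]

end Hyp

end Cfsg.Agent.Lib.Fischer3T60.Recog
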